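import Mathlib

/-!
# Extending a sign character across a Bruhat-type decomposition (helper4)

`G = B ∪ B s B` with `s⁻¹ = s`, `H = B ∩ s B s⁻¹`, and `B \ H = H b₀ H` a single double coset.
A homomorphism `λ : B → ℤˣ` whose restriction to `H` is invariant under conjugation by `s` extends
to a homomorphism `G → ℤˣ`.
-/

set_option autoImplicit false

namespace Cfsg.Agent.Lib.H4.Idx2

variable {G : Type*} [Group G]

/-- the data of the decomposition -/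
structure ExtData (B H : Subgroup G) (s : G) (lam : B →* ℤˣ) : Prop where
  sinv : s⁻¹ = s
  hHB : H ≤ B
  snot : s ∉ B
  hH : ∀ b ∈ B, s * b * s ∈ B → b ∈ H
  conjH : ∀ h ∈ H, s * h * s ∈ H
  lamH : ∀ (h : G) (hh : h ∈ H), lam ⟨s * h * s, hHB (conjH h hh)⟩ = lam ⟨h, hHB hh⟩
  cover : ∀ g : G, g ∈ B ∨ ∃ b₁ ∈ B, ∃ b₂ ∈ B, g = b₁ * s * b₂
  dbl : ∃ b₀ ∈ B, b₀ ∉ H ∧ ∀ b ∈ B, b ∉ H → ∃ h ∈ H, ∃ h' ∈ H, b = h * b₀ * h'

variable {B H : Subgroup G} {s : G} {lam : B →* ℤˣ}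

theorem units_sq (e : ℤˣ) : e * e = 1 := by
  rcases Int.units_eq_one_or e with h | h <;> rw [h] <;> rfl

theorem u1 : ∀ x u v y w : ℤˣ, x * u * (v * y) = u * v * w⁻¹ * (x * w * y) := by decide

theorem u2 : ∀ a b c d e : ℤˣ, a * (b * c) * d = a * e * b * (c * e * d) := by decide

theorem u3 : ∀ a β₁ e β₂ c b₂ c₁ : ℤˣ, β₁ * β₂ = e * (b₂ * c₁) →
    a * β₁ * e * (β₂ * c) = a * e * b₂ * (c₁ * e * c) := by decide

theorem u4 : ∀ b₁ b₂ c₁ c₂ : ℤˣ, b₂ * c₂⁻¹ = b₁⁻¹ * c₁ → c₁ * c₂ = b₁ * b₂ := by decide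

theorem u5 : ∀ b₁ b₂ c₁ c₂ e : ℤˣ, c₁ * c₂ = b₁ * b₂ → c₁ * e * c₂ = b₁ * e * b₂ := by decide

namespace ExtData

variable (d : ExtData B H s lam)

include d in
theorem ss : s * s = 1 := by
  have := d.sinv
  calc s * s = s⁻¹ * s := by rw [this]
    _ = 1 := inv_mul_cancel s

include d in
theorem not_mem_of_decomp {b₁ b₂ : G} (h1 : b₁ ∈ B) (h2 : b₂ ∈ B) : b₁ * s * b₂ ∉ B := by
  intro h
  apply d.snot
  have : s = b₁⁻¹ * (b₁ * s * b₂) * b₂⁻¹ := by group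
  rw [this]
  exact B.mul_mem (B.mul_mem (B.inv_mem h1) h) (B.inv_mem h2)

include d in
/-- uniqueness of the value on a double coset -/
theorem lam_decomp_unique {b₁ b₂ c₁ c₂ : G} (hb₁ : b₁ ∈ B) (hb₂ : b₂ ∈ B) (hc₁ : c₁ ∈ B)
    (hc₂ : c₂ ∈ B) (heq : c₁ * s * c₂ = b₁ * s * b₂) :
    lam ⟨c₁, hc₁⟩ * lam ⟨c₂, hc₂⟩ = lam ⟨b₁, hb₁⟩ * lam ⟨b₂, hb₂⟩ := by
  have hss := d.ss
  -- `h = b₁⁻¹ c₁ ∈ H` with `s h s = b₂ c₂⁻¹`
  have hh : s * (b₁⁻¹ * c₁) * s = b₂ * c₂⁻¹ := by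
    have h1 : c₁ * s = b₁ * s * b₂ * c₂⁻¹ := by
      rw [← heq]; group
    calc s * (b₁⁻¹ * c₁) * s = s * b₁⁻¹ * (c₁ * s) := by group
      _ = s * b₁⁻¹ * (b₁ * s * b₂ * c₂⁻¹) := by rw [h1]
      _ = (s * s) * b₂ * c₂⁻¹ := by group
      _ = b₂ * c₂⁻¹ := by rw [hss, one_mul]
  have hmemB : b₁⁻¹ * c₁ ∈ B := B.mul_mem (B.inv_mem hb₁) hc₁
  have hmemB' : s * (b₁⁻¹ * c₁) * s ∈ B := by
    rw [hh]; exact B.mul_mem hb₂ (B.inv_mem hc₂)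
  have hmemH : b₁⁻¹ * c₁ ∈ H := d.hH _ hmemB hmemB'
  have h2 := d.lamH _ hmemH
  have h3 : lam ⟨s * (b₁⁻¹ * c₁) * s, d.hHB (d.conjH _ hmemH)⟩ =
      lam ⟨b₂, hb₂⟩ * (lam ⟨c₂, hc₂⟩)⁻¹ := by
    rw [← map_inv, ← map_mul]
    congr 1
    exact Subtype.ext hh
  have h4 : lam ⟨b₁⁻¹ * c₁, d.hHB hmemH⟩ = (lam ⟨b₁, hb₁⟩)⁻¹ * lam ⟨c₁, hc₁⟩ := by
    rw [← map_inv, ← map_mul]
    rfl
  rw [h3, h4] at h2
  exact u4 _ _ _ _ h2

include d in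
/-- the sign of the big cell: `s b s = β₁ s β₂` with `λ β₁ * λ β₂ = ε * λ b` -/
theorem exists_eps : ∃ ε : ℤˣ, ∀ (b : G) (hb : b ∈ B), b ∉ H → ∃ (β₁ β₂ : G) (h1 : β₁ ∈ B)
    (h2 : β₂ ∈ B), s * b * s = β₁ * s * β₂ ∧ lam ⟨β₁, h1⟩ * lam ⟨β₂, h2⟩ = ε * lam ⟨b, hb⟩ := by
  obtain ⟨b₀, hb₀, hb₀H, hdbl⟩ := d.dbl
  have hss := d.ss
  -- a decomposition of `s b₀ s`
  have h0 : s * b₀ * s ∉ B := fun h => hb₀H (d.hH b₀ hb₀ h)
  obtain ⟨β₁, hβ₁, β₂, hβ₂, hβ⟩ := (d.cover (s * b₀ * s)).resolve_left h0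
  refine ⟨lam ⟨β₁, hβ₁⟩ * lam ⟨β₂, hβ₂⟩ * (lam ⟨b₀, hb₀⟩)⁻¹, ?_⟩
  intro b hb hbH
  obtain ⟨h, hh, h', hh', rfl⟩ := hdbl b hb hbH
  have e1 : s * h * s ∈ B := d.hHB (d.conjH h hh)
  have e2 : s * h' * s ∈ B := d.hHB (d.conjH h' hh')
  refine ⟨(s * h * s) * β₁, β₂ * (s * h' * s), B.mul_mem e1 hβ₁, B.mul_mem hβ₂ e2, ?_, ?_⟩
  · calc s * (h * b₀ * h') * s = (s * h * s) * (s * b₀ * s) * (s * h' * s) := by
          have : (s * h * s) * (s * b₀ * s) * (s * h' * s) =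
              s * h * (s * s) * b₀ * (s * s) * h' * s := by group
          rw [this, hss]; group
      _ = (s * h * s) * (β₁ * s * β₂) * (s * h' * s) := by rw [hβ]
      _ = (s * h * s) * β₁ * s * (β₂ * (s * h' * s)) := by group
  · have f1 : lam ⟨(s * h * s) * β₁, B.mul_mem e1 hβ₁⟩ = lam ⟨h, d.hHB hh⟩ * lam ⟨β₁, hβ₁⟩ := by
      rw [← d.lamH h hh, ← map_mul]; rfl
    have f2 : lam ⟨β₂ * (s * h' * s), B.mul_mem hβ₂ e2⟩ = lam ⟨β₂, hβ₂⟩ * lam ⟨h', d.hHB hh'⟩ := by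
      rw [← d.lamH h' hh', ← map_mul]; rfl
    have f3 : lam ⟨h * b₀ * h', hb⟩ = lam ⟨h, d.hHB hh⟩ * lam ⟨b₀, hb₀⟩ * lam ⟨h', d.hHB hh'⟩ := by
      rw [← map_mul, ← map_mul]; rfl
    rw [f1, f2, f3]
    exact u1 _ _ _ _ _

open Classical in
/-- the extension, as a function -/
noncomputable def ext (ε : ℤˣ) (g : G) : ℤˣ :=
  if hg : g ∈ B then lam ⟨g, hg⟩
  else if h : ∃ b₁ ∈ B, ∃ b₂ ∈ B, g = b₁ * s * b₂ then
    lam ⟨h.choose, h.choose_spec.1⟩ * ε *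
      lam ⟨h.choose_spec.2.choose, h.choose_spec.2.choose_spec.1⟩
  else 1

include d in
theorem ext_of_mem (ε : ℤˣ) {g : G} (hg : g ∈ B) : ext (B := B) (s := s) (lam := lam) ε g = lam ⟨g, hg⟩ := by
  unfold ext
  rw [dif_pos hg]

include d in
theorem ext_of_decomp (ε : ℤˣ) {b₁ b₂ : G} (h1 : b₁ ∈ B) (h2 : b₂ ∈ B) :
    ext (B := B) (s := s) (lam := lam) ε (b₁ * s * b₂) = lam ⟨b₁, h1⟩ * ε * lam ⟨b₂, h2⟩ := by
  unfold ext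
  rw [dif_neg (d.not_mem_of_decomp h1 h2)]
  have hex : ∃ c₁ ∈ B, ∃ c₂ ∈ B, b₁ * s * b₂ = c₁ * s * c₂ := ⟨b₁, h1, b₂, h2, rfl⟩
  rw [dif_pos hex]
  have key := d.lam_decomp_unique h1 h2 hex.choose_spec.1 hex.choose_spec.2.choose_spec.1
    hex.choose_spec.2.choose_spec.2.symm
  exact u5 _ _ _ _ ε key

include d in
/-- **the extension theorem** -/
theorem exists_hom : ∃ f : G →* ℤˣ, ∀ (b : G) (hb : b ∈ B), f b = lam ⟨b, hb⟩ := by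
  obtain ⟨ε, hε⟩ := d.exists_eps
  have hss := d.ss
  have hmul : ∀ g g' : G, ext (B := B) (s := s) (lam := lam) ε (g * g') =
      ext (B := B) (s := s) (lam := lam) ε g * ext (B := B) (s := s) (lam := lam) ε g' := by
    intro g g'
    rcases d.cover g with hg | ⟨b₁, hb₁, b₂, hb₂, rfl⟩
    · rcases d.cover g' with hg' | ⟨c₁, hc₁, c₂, hc₂, rfl⟩
      · rw [d.ext_of_mem ε hg, d.ext_of_mem ε hg', d.ext_of_mem ε (B.mul_mem hg hg'), ← map_mul]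
        rfl
      · have e1 : g * (c₁ * s * c₂) = (g * c₁) * s * c₂ := by group
        rw [e1, d.ext_of_decomp ε (B.mul_mem hg hc₁) hc₂, d.ext_of_decomp ε hc₁ hc₂,
          d.ext_of_mem ε hg]
        have : lam ⟨g * c₁, B.mul_mem hg hc₁⟩ = lam ⟨g, hg⟩ * lam ⟨c₁, hc₁⟩ := by
          rw [← map_mul]; rfl
        rw [this]
        simp only [mul_assoc]
    · rcases d.cover g' with hg' | ⟨c₁, hc₁, c₂, hc₂, rfl⟩
      · have e1 : b₁ * s * b₂ * g' = b₁ * s * (b₂ * g') := by group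
        rw [e1, d.ext_of_decomp ε hb₁ (B.mul_mem hb₂ hg'), d.ext_of_decomp ε hb₁ hb₂,
          d.ext_of_mem ε hg']
        have : lam ⟨b₂ * g', B.mul_mem hb₂ hg'⟩ = lam ⟨b₂, hb₂⟩ * lam ⟨g', hg'⟩ := by
          rw [← map_mul]; rfl
        rw [this]
        simp only [mul_assoc]
      · rw [d.ext_of_decomp ε hb₁ hb₂, d.ext_of_decomp ε hc₁ hc₂]
        have hbB : b₂ * c₁ ∈ B := B.mul_mem hb₂ hc₁
        have hlamb : lam ⟨b₂ * c₁, hbB⟩ = lam ⟨b₂, hb₂⟩ * lam ⟨c₁, hc₁⟩ := by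
          rw [← map_mul]; rfl
        have e1 : b₁ * s * b₂ * (c₁ * s * c₂) = b₁ * (s * (b₂ * c₁) * s) * c₂ := by group
        by_cases hbH : b₂ * c₁ ∈ H
        · have hm : s * (b₂ * c₁) * s ∈ B := d.hHB (d.conjH _ hbH)
          have hm2 : b₁ * (s * (b₂ * c₁) * s) * c₂ ∈ B := B.mul_mem (B.mul_mem hb₁ hm) hc₂
          rw [e1, d.ext_of_mem ε hm2]
          have : lam ⟨b₁ * (s * (b₂ * c₁) * s) * c₂, hm2⟩ =
              lam ⟨b₁, hb₁⟩ * lam ⟨s * (b₂ * c₁) * s, hm⟩ * lam ⟨c₂, hc₂⟩ := by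
            rw [← map_mul, ← map_mul]; rfl
          rw [this, d.lamH _ hbH, hlamb]
          exact u2 _ _ _ _ ε
        · obtain ⟨β₁, β₂, hβ₁, hβ₂, hβ, hlamβ⟩ := hε (b₂ * c₁) hbB hbH
          have e2 : b₁ * (s * (b₂ * c₁) * s) * c₂ = (b₁ * β₁) * s * (β₂ * c₂) := by
            rw [hβ]; group
          rw [e1, e2, d.ext_of_decomp ε (B.mul_mem hb₁ hβ₁) (B.mul_mem hβ₂ hc₂)]
          have f1 : lam ⟨b₁ * β₁, B.mul_mem hb₁ hβ₁⟩ = lam ⟨b₁, hb₁⟩ * lam ⟨β₁, hβ₁⟩ := by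
            rw [← map_mul]; rfl
          have f2 : lam ⟨β₂ * c₂, B.mul_mem hβ₂ hc₂⟩ = lam ⟨β₂, hβ₂⟩ * lam ⟨c₂, hc₂⟩ := by
            rw [← map_mul]; rfl
          rw [f1, f2]
          rw [hlamb] at hlamβ
          exact u3 _ _ ε _ _ _ _ hlamβ
  refine ⟨{ toFun := ext (B := B) (s := s) (lam := lam) ε
            map_one' := by
              rw [d.ext_of_mem ε B.one_mem]
              exact map_one lam
            map_mul' := hmul }, ?_⟩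
  intro b hb
  exact d.ext_of_mem ε hb

end ExtData

end Cfsg.Agent.Lib.H4.Idx2
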