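import Mathlib
import Cfsg.Agent.Lib.H4.NF.AbCyc
import Cfsg.Agent.Lib.H4.NF.QuatAut
import Cfsg.Agent.Lib.H22.QuatSylowSL23
import Cfsg.Agent.Lib.L0.FrobeniusPC

/-!
# Failure of the Frobenius hypothesis for the prime 2 (helper4)

In a finite group whose abelian subgroups are cyclic, the Frobenius hypothesis for the prime `2`
can only fail through a quaternion subgroup `Q` of order `8` normalized, but not centralized, by
an element `g` of odd order.  Then `g ^ k` centralizes `Q` exactly when `3 ∣ k`; and if the group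
has at most one subgroup of order `3`, then `9 ∣ orderOf g`.
-/

set_option autoImplicit false

namespace Cfsg.Agent.Lib.H4.Idx2

open Subgroup Cfsg.Agent.Lib.H4.NF Cfsg.Agent.Lib.L0 Cfsg.Agent.Lib.H22

variable {G : Type*} [Group G]

/-- the data of a failure of the Frobenius hypothesis -/
structure QData (Q : Subgroup G) (g : G) : Prop where
  iso : Nonempty (Q ≃* QuaternionGroup 2)
  norm : g ∈ normalizer (Q : Set G)
  odd : Odd (orderOf g)
  ncent : g ∉ centralizer (Q : Set G)

theorem exists_qdata_of_not_frobHyp [Finite G] (h : AbCyc G) (hF : ¬ FrobHyp 2 G) :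
    ∃ (Q : Subgroup G) (g : G), QData Q g := by
  haveI : Fact (Nat.Prime 2) := ⟨Nat.prime_two⟩
  unfold FrobHyp at hF
  push Not at hF
  obtain ⟨Q, hQ, g, hgN, hgcop, hgC⟩ := hF
  rcases cyclic_or_quat (h.subgroup Q) hQ with hcyc | ⟨-, n, ⟨e⟩⟩
  · exfalso
    exact hgC (mem_centralizer_of_isPGroup_mulAut Q hgN hgcop
      (Cfsg.Agent.Lib.H16.isPGroup_mulAut_of_isCyclic hQ))
  · rcases Nat.lt_or_ge n 2 with hn | hn
    · interval_cases n
      · exfalso
        haveI : IsCyclic (QuaternionGroup (2 ^ 0)) := QuaternionGroup.quaternionGroup_one_isCyclic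
        haveI : IsCyclic Q := isCyclic_of_surjective e.symm e.symm.surjective
        exact hgC (mem_centralizer_of_isPGroup_mulAut Q hgN hgcop
          (Cfsg.Agent.Lib.H16.isPGroup_mulAut_of_isCyclic hQ))
      · rw [pow_one] at e
        exact ⟨Q, g, ⟨e⟩, hgN, Nat.coprime_two_right.mp hgcop, hgC⟩
    · exfalso
      apply hgC
      apply mem_centralizer_of_isPGroup_mulAut Q hgN hgcop
      exact (isPGroup_mulAut_quaternion n hn).of_equiv (MulAut.congr e).symm

variable {Q : Subgroup G} {g : G}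

theorem QData.pow_mem_normalizer (d : QData Q g) (k : ℕ) : g ^ k ∈ normalizer (Q : Set G) :=
  Subgroup.pow_mem _ d.norm k

/-- the image of `g` in `Aut Q` has order `3` -/
theorem QData.orderOf_image (d : QData Q g) :
    orderOf (Q.normalizerMonoidHom ⟨g, d.norm⟩) = 3 := by
  obtain ⟨e⟩ := d.iso
  haveI : Finite (MulAut Q) := by
    apply Nat.finite_of_card_ne_zero
    intro h0
    have := QuatAut.card_mulAut_dvd e
    rw [h0] at this
    simp at this
  have h24 : orderOf (Q.normalizerMonoidHom ⟨g, d.norm⟩) ∣ 24 :=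
    (_root_.orderOf_dvd_natCard _).trans (QuatAut.card_mulAut_dvd e)
  have hm : (Q.normalizerMonoidHom ⟨g, d.norm⟩) ^ orderOf g = 1 := by
    rw [← map_pow]
    have : (⟨g, d.norm⟩ : Subgroup.normalizer (Q : Set G)) ^ orderOf g = 1 :=
      Subtype.ext (by simp)
    rw [this, map_one]
  have h2 : orderOf (Q.normalizerMonoidHom ⟨g, d.norm⟩) ∣ orderOf g := orderOf_dvd_of_pow_eq_one hm
  have hcop : Nat.Coprime (orderOf (Q.normalizerMonoidHom ⟨g, d.norm⟩)) 8 := by
    have h3 : Nat.Coprime (orderOf g) 2 := Nat.coprime_two_right.mpr d.odd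
    have h4 : Nat.Coprime (orderOf g) (2 ^ 3) := Nat.Coprime.pow_right 3 h3
    exact Nat.Coprime.coprime_dvd_left h2 h4
  have h3 : orderOf (Q.normalizerMonoidHom ⟨g, d.norm⟩) ∣ 3 :=
    Nat.Coprime.dvd_of_dvd_mul_left hcop (by simpa using h24)
  rcases (Nat.dvd_prime Nat.prime_three).mp h3 with h1 | h3'
  · exfalso
    apply d.ncent
    have h4 : (⟨g, d.norm⟩ : Subgroup.normalizer (Q : Set G)) ∈ Q.normalizerMonoidHom.ker := by
      rw [MonoidHom.mem_ker]; exact orderOf_eq_one_iff.mp h1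
    rw [Subgroup.normalizerMonoidHom_ker, Subgroup.mem_subgroupOf] at h4
    exact h4
  · exact h3'

/-- `g ^ k` centralizes `Q` exactly when `3 ∣ k` -/
theorem QData.pow_mem_centralizer_iff (d : QData Q g) (k : ℕ) :
    g ^ k ∈ centralizer (Q : Set G) ↔ 3 ∣ k := by
  have h1 : g ^ k ∈ centralizer (Q : Set G) ↔
      (⟨g, d.norm⟩ : Subgroup.normalizer (Q : Set G)) ^ k ∈ Q.normalizerMonoidHom.ker := by
    rw [Subgroup.normalizerMonoidHom_ker, Subgroup.mem_subgroupOf]
    rfl
  rw [h1, MonoidHom.mem_ker, map_pow, ← d.orderOf_image]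
  exact orderOf_dvd_iff_pow_eq_one.symm

theorem QData.three_dvd (d : QData Q g) : 3 ∣ orderOf g := by
  rw [← d.pow_mem_centralizer_iff, pow_orderOf_eq_one]
  exact Subgroup.one_mem _

/-- with at most one subgroup of order `3`, the order of `g` is divisible by `9` -/
theorem QData.nine_dvd [Finite G] (d : QData Q g)
    (hP2 : ∀ A B : Subgroup G, Nat.card A = 3 → Nat.card B = 3 → A = B) : 9 ∣ orderOf g := by
  by_contra h9
  obtain ⟨m', hm'⟩ := d.three_dvd
  have hm'3 : ¬ 3 ∣ m' := by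
    rintro ⟨m'', rfl⟩
    apply h9
    rw [hm']
    exact ⟨m'', by ring⟩
  have hpos : 0 < orderOf g := orderOf_pos g
  have hm'pos : 0 < m' := by
    rcases Nat.eq_zero_or_pos m' with h0 | h0
    · rw [h0, mul_zero] at hm'; omega
    · exact h0
  -- the element of order 3
  set y := g ^ m' with hy
  have hyo : orderOf y = 3 := by
    rw [hy, orderOf_pow, hm', Nat.gcd_eq_right (Dvd.intro_left 3 rfl)]
    exact Nat.mul_div_cancel _ hm'pos
  have hYcard : Nat.card (zpowers y) = 3 := by rw [Nat.card_zpowers, hyo]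
  -- `⟨y⟩` is normal
  have hYn : ∀ h : G, h * y * h⁻¹ ∈ zpowers y := by
    intro h
    have h1 : Nat.card ((zpowers y).map (MulAut.conj h).toMonoidHom) = 3 := by
      rw [Subgroup.card_map_of_injective (MulAut.conj h).injective, hYcard]
    have h2 := hP2 _ _ h1 hYcard
    rw [← h2]
    exact ⟨y, Subgroup.mem_zpowers y, by simp [MulAut.conj_apply]⟩
  -- `y` centralizes `Q`
  obtain ⟨e⟩ := d.iso
  have hQcard : Nat.card Q = 8 := by
    rw [Nat.card_congr e.toEquiv, Nat.card_eq_fintype_card, QuaternionGroup.card]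
  have hinf : Q ⊓ zpowers y = ⊥ := by
    apply disjoint_iff.mp
    apply Subgroup.disjoint_of_coprime_natCard
    rw [hQcard, hYcard]
    norm_num
  have hyN : y ∈ normalizer (Q : Set G) := d.pow_mem_normalizer m'
  have hyC : y ∈ centralizer (Q : Set G) := by
    rw [Subgroup.mem_centralizer_iff]
    intro q hq
    have h1 : q * y * q⁻¹ * y⁻¹ ∈ zpowers y :=
      Subgroup.mul_mem _ (hYn q) (Subgroup.inv_mem _ (Subgroup.mem_zpowers y))
    have h2 : q * y * q⁻¹ * y⁻¹ ∈ Q := by
      have h3 : y * q⁻¹ * y⁻¹ ∈ Q := (Subgroup.mem_normalizer_iff.mp hyN q⁻¹).mp (Q.inv_mem hq)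
      have h4 : q * y * q⁻¹ * y⁻¹ = q * (y * q⁻¹ * y⁻¹) := by group
      rw [h4]
      exact Q.mul_mem hq h3
    have h5 : q * y * q⁻¹ * y⁻¹ ∈ Q ⊓ zpowers y := ⟨h2, h1⟩
    rw [hinf, Subgroup.mem_bot] at h5
    calc q * y = (q * y * q⁻¹ * y⁻¹) * (y * q) := by group
      _ = y * q := by rw [h5, one_mul]
  exact hm'3 ((d.pow_mem_centralizer_iff m').mp hyC)

end Cfsg.Agent.Lib.H4.Idx2
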