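import Mathlib
import Cfsg.Agent.Lib.H4.Idx2.Frob2

/-!
# Solvability (helper4)

A finite group whose abelian subgroups are cyclic and which has at most one subgroup of order `3`
is solvable.
-/

set_option autoImplicit false

namespace Cfsg.Agent.Lib.H4.Idx2

open Subgroup Cfsg.Agent.Lib.H4.NF Cfsg.Agent.Lib.L0 Cfsg.Agent.Lib.H22

theorem totient_three_pow_dvd (e : ℕ) : Nat.totient (3 ^ e) ∣ 3 ^ e * 2 := by
  rcases Nat.eq_zero_or_pos e with h0 | h0
  · rw [h0, pow_zero, Nat.totient_one]; exact one_dvd _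
  · rw [Nat.totient_prime_pow Nat.prime_three h0]
    have : 3 ^ e = 3 ^ (e - 1) * 3 := by
      rw [← pow_succ]; congr 1; omega
    rw [this]
    exact ⟨3, by ring⟩

/-- the Frobenius hypothesis for `3` when the elements of order `3` are central -/
theorem frobHyp_three {C : Type*} [Group C] [Finite C] (h : AbCyc C)
    (hc3 : ∀ y : C, orderOf y = 3 → ∀ x : C, x * y = y * x) : FrobHyp 3 C := by
  haveI : Fact (Nat.Prime 3) := ⟨Nat.prime_three⟩
  intro Q hQ g hgN hgcop
  have hcyc : IsCyclic Q := by
    rcases cyclic_or_quat (h.subgroup Q) hQ with hc | ⟨h32, -⟩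
    · exact hc
    · omega
  -- the image of `g` in `Aut Q` squares to one
  have hsq : (Q.normalizerMonoidHom ⟨g, hgN⟩) ^ 2 = 1 := by
    obtain ⟨e, he⟩ := IsPGroup.iff_card.mp hQ
    have h1 : orderOf (Q.normalizerMonoidHom ⟨g, hgN⟩) ∣ Nat.card (MulAut Q) :=
      _root_.orderOf_dvd_natCard _
    rw [IsCyclic.card_mulAut, he] at h1
    have h1' := h1.trans (totient_three_pow_dvd e)
    have hm : (Q.normalizerMonoidHom ⟨g, hgN⟩) ^ orderOf g = 1 := by
      rw [← map_pow]
      have : (⟨g, hgN⟩ : Subgroup.normalizer (Q : Set C)) ^ orderOf g = 1 :=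
        Subtype.ext (by simp)
      rw [this, map_one]
    have h2 : orderOf (Q.normalizerMonoidHom ⟨g, hgN⟩) ∣ orderOf g :=
      orderOf_dvd_of_pow_eq_one hm
    have hcop : Nat.Coprime (orderOf (Q.normalizerMonoidHom ⟨g, hgN⟩)) (3 ^ e) :=
      Nat.Coprime.coprime_dvd_left h2 (Nat.Coprime.pow_right e hgcop)
    have h3 : orderOf (Q.normalizerMonoidHom ⟨g, hgN⟩) ∣ 2 :=
      Nat.Coprime.dvd_of_dvd_mul_left hcop h1'
    exact orderOf_dvd_iff_pow_eq_one.mp h3
  have hgg : ∀ x ∈ Q, g * (g * x * g⁻¹) * g⁻¹ = x := by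
    intro x hx
    have h1 := congrArg (fun f : MulAut Q => ((f ⟨x, hx⟩ : Q) : C)) hsq
    simpa [pow_two] using h1
  rw [Subgroup.mem_centralizer_iff]
  intro x hx
  have hx' : g * x * g⁻¹ ∈ Q := (Subgroup.mem_normalizer_iff.mp hgN x).mp hx
  set u := x * (g * x * g⁻¹)⁻¹ with hu
  have huQ : u ∈ Q := Q.mul_mem hx (Q.inv_mem hx')
  have hgu : g * u * g⁻¹ = u⁻¹ := by
    have h1 : g * u * g⁻¹ = (g * x * g⁻¹) * (g * (g * x * g⁻¹) * g⁻¹)⁻¹ := by
      rw [hu]; group
    rw [h1, hgg x hx, hu]
    group
  have hu1 : u = 1 := by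
    by_contra hne
    obtain ⟨k, hk⟩ := hQ ⟨u, huQ⟩
    have hk' : u ^ 3 ^ k = 1 := by
      have := congrArg Subtype.val hk
      simpa using this
    obtain ⟨j, -, hj⟩ := (Nat.dvd_prime_pow Nat.prime_three).mp (orderOf_dvd_of_pow_eq_one hk')
    have hj0 : j ≠ 0 := by
      rintro rfl
      rw [pow_zero, orderOf_eq_one_iff] at hj
      exact hne hj
    set w := u ^ 3 ^ (j - 1) with hw
    have hw3 : w ^ 3 = 1 := by
      rw [hw, ← pow_mul, ← pow_succ]
      have : j - 1 + 1 = j := by omega
      rw [this, ← hj, pow_orderOf_eq_one]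
    have hw1 : w ≠ 1 := by
      rw [hw]
      apply pow_ne_one_of_lt_orderOf (by positivity)
      rw [hj]
      exact Nat.pow_lt_pow_right (by norm_num) (by omega)
    have hwo : orderOf w = 3 := orderOf_eq_prime hw3 hw1
    have hgw : g * w * g⁻¹ = w⁻¹ := by
      rw [hw, ← conj_pow, hgu, inv_pow]
    have hcw : g * w = w * g := hc3 w hwo g
    have hww : w = w⁻¹ := by
      rw [← hgw, hcw]; group
    apply hw1
    have h2 : w ^ 2 = 1 := by
      rw [pow_two]
      nth_rewrite 2 [hww]
      exact mul_inv_cancel w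
    calc w = w ^ 3 * (w ^ 2)⁻¹ := by group
      _ = 1 := by rw [hw3, h2]; simp
  have h3 : x = g * x * g⁻¹ := by
    have : x * (g * x * g⁻¹)⁻¹ = 1 := hu1
    exact mul_inv_eq_one.mp this
  calc x * g = (g * x * g⁻¹) * g := by rw [← h3]
    _ = g * x := by group

/-- a group of odd order whose abelian subgroups are cyclic is a Z-group -/
theorem isZGroup_of_odd {N : Type*} [Group N] [Finite N] (h : AbCyc N) (hodd : Odd (Nat.card N)) :
    IsZGroup N := by
  refine ⟨fun r hr R => ?_⟩
  haveI : Fact r.Prime := ⟨hr⟩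
  rcases cyclic_or_quat (h.subgroup R) R.2 with hc | ⟨hr2, -⟩
  · exact hc
  · -- a 2-subgroup of a group of odd order is trivial
    subst hr2
    have h1 : Nat.card R ∣ Nat.card N := Subgroup.card_subgroup_dvd_card _
    obtain ⟨k, hk⟩ := IsPGroup.iff_card.mp R.2
    have hk0 : k = 0 := by
      by_contra hk0
      have h2 : 2 ∣ Nat.card N := (dvd_pow_self 2 hk0).trans (hk ▸ h1)
      exact (Nat.not_even_iff_odd.mpr hodd) (even_iff_two_dvd.mpr h2)
    rw [hk0, pow_zero] at hk
    haveI : Subsingleton R := (Nat.card_eq_one_iff_unique.mp hk).1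
    exact isCyclic_of_subsingleton

/-- a group whose abelian subgroups are cyclic, of order prime to `3`, is solvable -/
theorem solvable_of_three_not_dvd {M : Type*} [Group M] [Finite M] (h : AbCyc M)
    (h3 : ¬ 3 ∣ Nat.card M) : Group.IsSolvable M := by
  haveI : Fact (Nat.Prime 2) := ⟨Nat.prime_two⟩
  have hF : FrobHyp 2 M := by
    by_contra hF
    obtain ⟨Q, g, d⟩ := exists_qdata_of_not_frobHyp h hF
    exact h3 (d.three_dvd.trans (_root_.orderOf_dvd_natCard g))
  obtain ⟨P, N, hNn, hcompl⟩ := hasNormalPComplement_of_frobHyp hF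
  have hcard : Nat.card N * Nat.card P = Nat.card M := hcompl.card_mul_card
  have hNodd : Odd (Nat.card N) := by
    have h1 : Nat.card N = (P : Subgroup M).index := by
      have h2 := (P : Subgroup M).card_mul_index
      have hpos : 0 < Nat.card P := Nat.card_pos
      have : Nat.card P * Nat.card N = Nat.card P * (P : Subgroup M).index := by
        rw [h2, mul_comm, hcard]
      exact Nat.eq_of_mul_eq_mul_left hpos this
    rw [h1, ← Nat.not_even_iff_odd, even_iff_two_dvd]
    exact P.not_dvd_index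
  haveI : IsZGroup N := isZGroup_of_odd (h.subgroup N) hNodd
  haveI : Group.IsSolvable N := inferInstance
  haveI : Group.IsSolvable (M ⧸ N) := by
    have h1 : Nat.card (M ⧸ N) = Nat.card P := by
      have h2 := N.card_mul_index
      rw [Subgroup.index_eq_card] at h2
      have hpos : 0 < Nat.card N := Nat.card_pos
      have : Nat.card N * Nat.card (M ⧸ N) = Nat.card N * Nat.card P := by rw [h2, hcard]
      exact Nat.eq_of_mul_eq_mul_left hpos this
    obtain ⟨k, hk⟩ := IsPGroup.iff_card.mp P.2
    have hp : IsPGroup 2 (M ⧸ N) := IsPGroup.of_card (n := k) (by rw [h1, hk])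
    haveI := hp.isNilpotent
    infer_instance
  exact Group.isSolvable_of_ker_le_range N.subtype (QuotientGroup.mk' N) (by
    rw [QuotientGroup.ker_mk', Subgroup.range_subtype])

/-- **solvability** -/
theorem solvable_of_abCyc {H : Type*} [Group H] [Finite H] (h : AbCyc H)
    (hP2 : ∀ A B : Subgroup H, Nat.card A = 3 → Nat.card B = 3 → A = B) : Group.IsSolvable H := by
  haveI : Fact (Nat.Prime 3) := ⟨Nat.prime_three⟩
  by_cases h3 : 3 ∣ Nat.card H
  swap
  · exact solvable_of_three_not_dvd h h3
  obtain ⟨y, hy⟩ := exists_prime_orderOf_dvd_card' 3 h3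
  have hYcard : Nat.card (zpowers y) = 3 := by rw [Nat.card_zpowers, hy]
  haveI hYn : (zpowers y).Normal := by
    constructor
    intro n hn g
    have h1 : Nat.card ((zpowers y).map (MulAut.conj g).toMonoidHom) = 3 := by
      rw [Subgroup.card_map_of_injective (MulAut.conj g).injective, hYcard]
    have h2 := hP2 _ _ h1 hYcard
    rw [← h2]
    exact ⟨n, hn, by simp [MulAut.conj_apply]⟩
  set C : Subgroup H := centralizer (zpowers y : Set H) with hC
  haveI hCn : C.Normal := inferInstance
  -- `C` is solvable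
  haveI hCsol : Group.IsSolvable C := by
    have hCab : AbCyc C := h.subgroup C
    have hc3 : ∀ w : C, orderOf w = 3 → ∀ x : C, x * w = w * x := by
      intro w hw x
      have h1 : Nat.card (zpowers (w : H)) = 3 := by
        rw [Nat.card_zpowers, Subgroup.orderOf_coe, hw]
      have h2 := hP2 _ _ h1 hYcard
      have h3 : (w : H) ∈ zpowers y := by rw [← h2]; exact Subgroup.mem_zpowers _
      have h4 : (x : H) ∈ centralizer (zpowers y : Set H) := x.2
      rw [Subgroup.mem_centralizer_iff] at h4
      apply Subtype.ext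
      exact (h4 (w : H) h3).symm
    obtain ⟨X, M, hMn, hcompl⟩ := hasNormalPComplement_of_frobHyp (frobHyp_three hCab hc3)
    have hcard : Nat.card M * Nat.card X = Nat.card C := hcompl.card_mul_card
    have hM3 : ¬ 3 ∣ Nat.card M := by
      have h1 : Nat.card M = (X : Subgroup C).index := by
        have h2 := (X : Subgroup C).card_mul_index
        have hpos : 0 < Nat.card X := Nat.card_pos
        have : Nat.card X * Nat.card M = Nat.card X * (X : Subgroup C).index := by
          rw [h2, mul_comm, hcard]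
        exact Nat.eq_of_mul_eq_mul_left hpos this
      rw [h1]
      exact X.not_dvd_index
    haveI : Group.IsSolvable M := solvable_of_three_not_dvd (hCab.subgroup M) hM3
    haveI : Group.IsSolvable (C ⧸ M) := by
      have h1 : Nat.card (C ⧸ M) = Nat.card X := by
        have h2 := M.card_mul_index
        rw [Subgroup.index_eq_card] at h2
        have hpos : 0 < Nat.card M := Nat.card_pos
        have : Nat.card M * Nat.card (C ⧸ M) = Nat.card M * Nat.card X := by rw [h2, hcard]
        exact Nat.eq_of_mul_eq_mul_left hpos this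
      obtain ⟨k, hk⟩ := IsPGroup.iff_card.mp X.2
      have hp : IsPGroup 3 (C ⧸ M) := IsPGroup.of_card (n := k) (by rw [h1, hk])
      haveI := hp.isNilpotent
      infer_instance
    exact Group.isSolvable_of_ker_le_range M.subtype (QuotientGroup.mk' M) (by
      rw [QuotientGroup.ker_mk', Subgroup.range_subtype])
  -- `H / C` embeds in `Aut ⟨y⟩`
  haveI : Group.IsSolvable (MulAut (zpowers y)) := by
    have h1 : Nat.card (MulAut (zpowers y)) = 2 := by
      rw [IsCyclic.card_mulAut, hYcard]
      rfl
    haveI : Fact (Nat.Prime 2) := ⟨Nat.prime_two⟩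
    haveI : IsCyclic (MulAut (zpowers y)) := isCyclic_of_prime_card h1
    haveI : IsMulCommutative (MulAut (zpowers y)) := inferInstance
    infer_instance
  refine Group.isSolvable_of_ker_le_range C.subtype (MulAut.conjNormal (H := zpowers y)) ?_
  rw [Subgroup.range_subtype]
  intro g hg
  rw [MonoidHom.mem_ker] at hg
  rw [hC, Subgroup.mem_centralizer_iff]
  intro q hq
  have h1 := congrArg (fun f : MulAut (zpowers y) => ((f ⟨q, hq⟩ : zpowers y) : H)) hg
  simp only [MulAut.conjNormal_apply, MulAut.one_apply] at h1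
  calc q * g = (g * q * g⁻¹) * g := by rw [h1]
    _ = g * q := by group

end Cfsg.Agent.Lib.H4.Idx2
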