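import Mathlib
import Cfsg.Agent.Lib.H4.Idx2.Sol
import Cfsg.Agent.Lib.H4.NF.Main

/-!
# A subgroup of index two in the multiplicative group of certain near-fields (helper4)

A group `H` of linear maps over the prime field, regular on the non-zero vectors, of even order
and with at most one subgroup of order `3`, has a subgroup of index `2`.
-/

set_option autoImplicit false

namespace Cfsg.Agent.Lib.H4.Idx2

open Subgroup Cfsg.Agent.Lib.H4.NF Cfsg.Agent.Lib.L0 Cfsg.Agent.Lib.H22
open Cfsg.Agent.Lib.H4.NF.Spread Cfsg.Agent.Lib.H4.NF.FieldK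

section group

variable {G : Type*} [Group G]

/-- the automorphism group of a cyclic group is commutative -/
theorem mulAut_comm_of_isCyclic {A : Type*} [Group A] [IsCyclic A] (φ ψ : MulAut A) :
    φ * ψ = ψ * φ := by
  apply (IsCyclic.mulAutMulEquiv A).injective
  rw [map_mul, map_mul, mul_comm]

/-- commutators lie in the centralizer of a cyclic normal subgroup -/
theorem commutator_mem_centralizer_of_isCyclic (A : Subgroup G) [A.Normal] [IsCyclic A] (x g : G) :
    x * g * x⁻¹ * g⁻¹ ∈ centralizer (A : Set G) := by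
  have h1 : MulAut.conjNormal (H := A) (x * g * x⁻¹ * g⁻¹) = 1 := by
    rw [map_mul, map_mul, map_mul, map_inv, map_inv,
      mulAut_comm_of_isCyclic (MulAut.conjNormal (H := A) x) (MulAut.conjNormal (H := A) g)]
    group
  rw [Subgroup.mem_centralizer_iff]
  intro q hq
  have h2 := congrArg (fun f : MulAut A => ((f ⟨q, hq⟩ : A) : G)) h1
  simp only [MulAut.conjNormal_apply, MulAut.one_apply] at h2
  set c := x * g * x⁻¹ * g⁻¹
  calc q * c = (c * q * c⁻¹) * c := by rw [h2]
    _ = c * q := by group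

/-- the failure data is incompatible with an abelian normal subgroup with abelian quotient -/
theorem QData.false_of_abelian_normal [Finite G] (h : AbCyc G) {Q : Subgroup G} {g : G}
    (d : QData Q g) (C : Subgroup G) [hCn : C.Normal] (hCab : ∀ s ∈ C, ∀ t ∈ C, s * t = t * s)
    (hquot : ∀ x : G, x * g * x⁻¹ * g⁻¹ ∈ C) : False := by
  haveI : Fact (Nat.Prime 2) := ⟨Nat.prime_two⟩
  obtain ⟨e⟩ := d.iso
  have hQcard : Nat.card Q = 8 := by
    rw [Nat.card_congr e.toEquiv, Nat.card_eq_fintype_card, QuaternionGroup.card]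
  have hQ2 : IsPGroup 2 Q := IsPGroup.of_card (n := 3) (by rw [hQcard]; norm_num)
  set B : Subgroup G := Q ⊓ C with hB
  have hBc : IsMulCommutative B := by
    refine ⟨⟨fun s t => ?_⟩⟩
    apply Subtype.ext
    exact hCab s.1 s.2.2 t.1 t.2.2
  haveI hBcyc : IsCyclic B := h B hBc
  have hB2 : IsPGroup 2 B := hQ2.to_le inf_le_left
  have hgNB : g ∈ normalizer (B : Set G) := by
    rw [Subgroup.mem_normalizer_iff]
    intro b
    rw [hB, Subgroup.mem_inf, Subgroup.mem_inf, ← Subgroup.mem_normalizer_iff.mp d.norm b]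
    constructor
    · rintro ⟨h1, h2⟩
      exact ⟨h1, hCn.conj_mem b h2 g⟩
    · rintro ⟨h1, h2⟩
      refine ⟨h1, ?_⟩
      have := hCn.conj_mem _ h2 g⁻¹
      simpa [mul_assoc] using this
  have hgcop : Nat.Coprime (orderOf g) 2 := Nat.coprime_two_right.mpr d.odd
  have hgCB : g ∈ centralizer (B : Set G) :=
    mem_centralizer_of_isPGroup_mulAut B hgNB hgcop
      (Cfsg.Agent.Lib.H16.isPGroup_mulAut_of_isCyclic hB2)
  apply d.ncent
  rw [Subgroup.mem_centralizer_iff]
  intro x hx
  -- `g x g⁻¹ = x b` with `b ∈ B` centralized by `g`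
  set b := x⁻¹ * (g * x * g⁻¹) with hb
  have hbB : b ∈ B := by
    rw [hB, Subgroup.mem_inf]
    constructor
    · exact Q.mul_mem (Q.inv_mem hx) ((Subgroup.mem_normalizer_iff.mp d.norm x).mp hx)
    · have := hquot x⁻¹
      have h2 : x⁻¹ * g * x⁻¹⁻¹ * g⁻¹ = b := by rw [hb]; group
      rwa [h2] at this
  have hgb : b * g = g * b := (Subgroup.mem_centralizer_iff.mp hgCB) b hbB
  have hgx : g * x * g⁻¹ = x * b := by rw [hb]; group
  have hpow : ∀ k : ℕ, g ^ k * x * (g ^ k)⁻¹ = x * b ^ k := by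
    intro k
    induction k with
    | zero => simp
    | succ k ih =>
      have hgbk : g * b ^ k * g⁻¹ = b ^ k := by
        have : Commute g (b ^ k) := (Commute.pow_right hgb.symm k)
        rw [this.eq]; group
      calc g ^ (k + 1) * x * (g ^ (k + 1))⁻¹ = g * (g ^ k * x * (g ^ k)⁻¹) * g⁻¹ := by
            rw [pow_succ']; group
        _ = g * (x * b ^ k) * g⁻¹ := by rw [ih]
        _ = (g * x * g⁻¹) * (g * b ^ k * g⁻¹) := by group
        _ = x * b * b ^ k := by rw [hgx, hgbk]
        _ = x * b ^ (k + 1) := by rw [pow_succ', mul_assoc]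
  have h1 := hpow (orderOf g)
  rw [pow_orderOf_eq_one, one_mul, inv_one, mul_one] at h1
  have hbm : b ^ orderOf g = 1 := by
    have : x * b ^ orderOf g = x * 1 := by rw [mul_one]; exact h1.symm
    exact mul_left_cancel this
  have hb8 : b ^ 8 = 1 := by
    have hbQ : b ∈ Q := hbB.1
    have := pow_card_eq_one' (G := Q) (x := ⟨b, hbQ⟩)
    rw [hQcard] at this
    exact congrArg Subtype.val this
  have hb1 : b = 1 := by
    have h2 : orderOf b ∣ orderOf g := orderOf_dvd_of_pow_eq_one hbm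
    have h3 : orderOf b ∣ 8 := orderOf_dvd_of_pow_eq_one hb8
    have h4 : Nat.Coprime (orderOf g) 8 := by
      have : Nat.Coprime (orderOf g) (2 ^ 3) := Nat.Coprime.pow_right 3 hgcop
      simpa using this
    have h5 : orderOf b = 1 := Nat.eq_one_of_dvd_coprimes h4 h2 h3
    exact orderOf_eq_one_iff.mp h5
  rw [hb1, mul_one] at hgx
  calc x * g = (g * x * g⁻¹) * g := by rw [hgx]
    _ = g * x := by group

/-- a normal `2`-complement in a group of even order gives a subgroup of index two -/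
theorem exists_index_two_of_frobHyp [Finite G] (hF : FrobHyp 2 G) (heven : Even (Nat.card G)) :
    ∃ N : Subgroup G, N.index = 2 := by
  haveI : Fact (Nat.Prime 2) := ⟨Nat.prime_two⟩
  obtain ⟨P, N, hNn, hcompl⟩ := hasNormalPComplement_of_frobHyp hF
  have hcard : Nat.card N * Nat.card P = Nat.card G := hcompl.card_mul_card
  have h1 : Nat.card (G ⧸ N) = Nat.card P := by
    have h2 := N.card_mul_index
    rw [Subgroup.index_eq_card] at h2
    have hpos : 0 < Nat.card N := Nat.card_pos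
    have : Nat.card N * Nat.card (G ⧸ N) = Nat.card N * Nat.card P := by rw [h2, hcard]
    exact Nat.eq_of_mul_eq_mul_left hpos this
  obtain ⟨k, hk⟩ := IsPGroup.iff_card.mp P.2
  have hk0 : k ≠ 0 := by
    rintro rfl
    rw [pow_zero] at hk
    have h3 : (P : Subgroup G).index = Nat.card G := by
      have := (P : Subgroup G).card_mul_index
      rw [hk, one_mul] at this
      exact this
    have h4 := P.not_dvd_index
    rw [h3] at h4
    exact h4 (even_iff_two_dvd.mp heven)
  obtain ⟨K, hK⟩ := Sylow.exists_subgroup_card_pow_prime 2 (n := k - 1) (G := G ⧸ N) (by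
    rw [h1, hk]
    exact pow_dvd_pow 2 (by omega))
  have hKidx : K.index = 2 := by
    have h2 := K.card_mul_index
    rw [hK, h1, hk] at h2
    have h3 : 2 ^ k = 2 ^ (k - 1) * 2 := by
      rw [← pow_succ]; congr 1; omega
    rw [h3] at h2
    exact Nat.eq_of_mul_eq_mul_left (by positivity) h2
  refine ⟨K.comap (QuotientGroup.mk' N), ?_⟩
  rw [Subgroup.index_comap_of_surjective K (QuotientGroup.mk'_surjective N)]
  exact hKidx

end group

section linear

variable {p : ℕ} [hpf : Fact p.Prime] {V : Type*} [AddCommGroup V] [Module (ZMod p) V]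
  {H : Subgroup (V ≃ₗ[ZMod p] V)}

/-- the centralizer of an irreducible normal subgroup is commutative -/
theorem comm_centralizer_of_irreducible [Finite V]
    (hreg : ∀ v w : V, v ≠ 0 → w ≠ 0 → ∃! h : H, (h : V ≃ₗ[ZMod p] V) v = w)
    (v₀ : V) (hv₀ : v₀ ≠ 0) (A : Subgroup H) [hAn : A.Normal]
    (hirr : ∀ W : Submodule (ZMod p) V,
      (∀ a ∈ A, ∀ v ∈ W, ((a : H) : V ≃ₗ[ZMod p] V) v ∈ W) → W = ⊥ ∨ W = ⊤) :
    ∀ s ∈ centralizer (A : Set H), ∀ t ∈ centralizer (A : Set H), s * t = t * s := by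
  have hU : MinInv A (⊤ : Submodule (ZMod p) V) := by
    refine ⟨?_, fun _ _ _ _ => Submodule.mem_top, fun W' _ hinv => hirr W' hinv⟩
    intro h
    have : v₀ ∈ (⊤ : Submodule (ZMod p) V) := Submodule.mem_top
    rw [h, Submodule.mem_bot] at this
    exact hv₀ this
  haveI : IsDomain (commutant A (⊤ : Submodule (ZMod p) V)) := isDomain_commutant hU
  haveI : Finite (Module.End (ZMod p) (⊤ : Submodule (ZMod p) V)) := finite_end
  haveI : Finite (commutant A (⊤ : Submodule (ZMod p) V)) := Subtype.finite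
  have hst : ∀ s : H, s ∈ stab H (⊤ : Submodule (ZMod p) V) := by
    intro s
    rw [mem_stab]
    intro v
    exact ⟨fun _ => Submodule.mem_top, fun _ => Submodule.mem_top⟩
  intro s hs t ht
  have hsm : res ⊤ (⟨s, hst s⟩ : stab H (⊤ : Submodule (ZMod p) V)) ∈ commutant A ⊤ := by
    apply res_mem_commutant
    intro c hc
    exact (Subgroup.mem_centralizer_iff.mp hs) c hc
  have htm : res ⊤ (⟨t, hst t⟩ : stab H (⊤ : Submodule (ZMod p) V)) ∈ commutant A ⊤ := by
    apply res_mem_commutant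
    intro c hc
    exact (Subgroup.mem_centralizer_iff.mp ht) c hc
  have hcomm := FinDomain.comm (⟨_, hsm⟩ : commutant A (⊤ : Submodule (ZMod p) V)) ⟨_, htm⟩
  have h1 : res ⊤ (⟨s, hst s⟩ : stab H (⊤ : Submodule (ZMod p) V)) * res ⊤ ⟨t, hst t⟩ =
      res ⊤ ⟨t, hst t⟩ * res ⊤ ⟨s, hst s⟩ := congrArg Subtype.val hcomm
  rw [← res_mul, ← res_mul] at h1
  have hu₀ : (⟨v₀, Submodule.mem_top⟩ : (⊤ : Submodule (ZMod p) V)) ≠ 0 :=
    fun h0 => hv₀ (congrArg Subtype.val h0)
  have h2 := res_inj hreg _ _ ⟨v₀, Submodule.mem_top⟩ hu₀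
    (congrArg (fun f : Module.End (ZMod p) (⊤ : Submodule (ZMod p) V) =>
      f ⟨v₀, Submodule.mem_top⟩) h1)
  exact congrArg (fun x : stab H (⊤ : Submodule (ZMod p) V) => (x : H)) h2

/-- **the subgroup of index two** -/
theorem exists_index_two [Finite V]
    (hreg : ∀ v w : V, v ≠ 0 → w ≠ 0 → ∃! h : H, (h : V ≃ₗ[ZMod p] V) v = w)
    (v₀ : V) (hv₀ : v₀ ≠ 0)
    (hP2 : ∀ A B : Subgroup H, Nat.card A = 3 → Nat.card B = 3 → A = B)
    (heven : Even (Nat.card H)) : ∃ N : Subgroup H, N.index = 2 := by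
  have hcardH := Cfsg.Agent.S0684.card_H H hreg v₀ hv₀
  haveI : Finite H := by
    apply Nat.finite_of_card_ne_zero
    rw [hcardH]
    have := Finite.one_lt_card_iff_nontrivial.2 (⟨⟨v₀, 0, hv₀⟩⟩ : Nontrivial V)
    omega
  have hAb : AbCyc H := fun K hK => Cfsg.Agent.S0684.isCyclic_of_comm H hreg v₀ hv₀ K hK
  apply exists_index_two_of_frobHyp _ heven
  by_contra hF
  obtain ⟨Q, g, d⟩ := exists_qdata_of_not_frobHyp hAb hF
  have h9 : 9 ∣ Nat.card H := (d.nine_dvd hP2).trans (_root_.orderOf_dvd_natCard g)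
  haveI hsolv : Group.IsSolvable H := solvable_of_abCyc hAb hP2
  by_cases hI : ∀ A : Subgroup H, A.Normal → IsCyclic A → ∃ W : Submodule (ZMod p) V,
      W ≠ ⊥ ∧ W ≠ ⊤ ∧ ∀ a ∈ A, ∀ v ∈ W, ((a : H) : V ≃ₗ[ZMod p] V) v ∈ W
  · have hdeg := degrees hreg hI hsolv
    rw [hcardH] at h9
    rcases hdeg with h | h | h | h <;> rw [h] at h9 <;> revert h9 <;> norm_num
  · push Not at hI
    obtain ⟨A, hAn, hAc, hA⟩ := hI
    have hirr : ∀ W : Submodule (ZMod p) V,
        (∀ a ∈ A, ∀ v ∈ W, ((a : H) : V ≃ₗ[ZMod p] V) v ∈ W) → W = ⊥ ∨ W = ⊤ := by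
      intro W hW
      by_contra hcon
      push Not at hcon
      obtain ⟨a, ha, v, hv, hav⟩ := hA W hcon.1 hcon.2
      exact hav (hW a ha v hv)
    have hcomm := comm_centralizer_of_irreducible hreg v₀ hv₀ A hirr
    exact d.false_of_abelian_normal hAb (centralizer (A : Set H)) hcomm
      (fun x => commutator_mem_centralizer_of_isCyclic A x g)

end linear

end Cfsg.Agent.Lib.H4.Idx2
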