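import Mathlib
import Cfsg.Agent.Lib.H4.Idx2.Lin
import Cfsg.Agent.Lib.H4.NearFieldBasic
import Cfsg.Agent.Lib.H4.S3T.Odd.NFBasic

/-!
# The multiplicative group of a finite near-field as a regular linear group (helper4)
-/

set_option autoImplicit false

namespace Cfsg.Agent.Lib.H4.Idx2

open Subgroup Cfsg.Agent.Lib.H4.NF Cfsg.Agent.Lib.H4.S3T.Odd

/-- the additive commutative group of a near-field with commutative addition -/
@[reducible] def nfAddCommGroup {F : Type*} [Cfsg.NearField F] (hadd : ∀ x y : F, x + y = y + x) :
    AddCommGroup F :=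
  { (inferInstance : AddGroup F) with add_comm := hadd }

theorem exists_index_two_of_equiv {K R : Type*} [Group K] [Group R] (e : K ≃* R)
    (h : ∃ N : Subgroup R, N.index = 2) : ∃ N : Subgroup K, N.index = 2 := by
  obtain ⟨N, hN⟩ := h
  refine ⟨N.comap e.toMonoidHom, ?_⟩
  rw [Subgroup.index_comap_of_surjective N e.surjective]
  exact hN

theorem unique_three_of_equiv {K R : Type*} [Group K] [Group R] (e : K ≃* R)
    (hP2 : ∀ A B : Subgroup K, Nat.card A = 3 → Nat.card B = 3 → A = B) :
    ∀ A B : Subgroup R, Nat.card A = 3 → Nat.card B = 3 → A = B := by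
  intro A B hA hB
  have h1 : Nat.card (A.map e.symm.toMonoidHom) = 3 := by
    rw [Subgroup.card_map_of_injective e.symm.injective, hA]
  have h2 : Nat.card (B.map e.symm.toMonoidHom) = 3 := by
    rw [Subgroup.card_map_of_injective e.symm.injective, hB]
  exact Subgroup.map_injective e.symm.injective (hP2 _ _ h1 h2)

/-- **the index two subgroup for near-fields**: a group `K` parametrizing the non-zero elements
of a finite near-field anti-multiplicatively, of even order and with at most one subgroup of
order `3`, has a subgroup of index `2` -/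
theorem exists_index_two_of_nearField {F : Type*} [Cfsg.NearField F] [Finite F]
    (hadd : ∀ x y : F, x + y = y + x) {p : ℕ} [hp : Fact p.Prime] (hchar : ∀ x : F, p • x = 0)
    {K : Type*} [Group K] (r : K → F) (hr1 : r 1 = 1) (hrmul : ∀ k k', r (k * k') = r k' * r k)
    (hinj : Function.Injective r) (hsurj : ∀ a : F, a ≠ 0 → ∃ k, r k = a)
    (hP2 : ∀ A B : Subgroup K, Nat.card A = 3 → Nat.card B = 3 → A = B)
    (heven : Even (Nat.card K)) : ∃ N : Subgroup K, N.index = 2 := by
  letI acg : AddCommGroup F := nfAddCommGroup hadd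
  haveI : Module (ZMod p) F := AddCommGroup.zmodModule hchar
  have hr0 : ∀ k, r k ≠ 0 := by
    intro k h0
    have h1 := hrmul k⁻¹ k
    rw [inv_mul_cancel, hr1, h0, zero_mul'] at h1
    exact Cfsg.NearField.zero_ne_one h1.symm
  have hrinv : ∀ k, r k * r k⁻¹ = 1 := by
    intro k
    rw [← hrmul, inv_mul_cancel, hr1]
  have hrinv' : ∀ k, r k⁻¹ * r k = 1 := by
    intro k
    rw [← hrmul, mul_inv_cancel, hr1]
  -- the right multiplications
  let mulR : K → (F →+ F) := fun k =>
    { toFun := fun x => x * r k
      map_zero' := zero_mul' (r k)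
      map_add' := fun x y => rdistrib x y (r k) }
  have hex : ∃ ρ : K →* (F ≃ₗ[ZMod p] F), ∀ k x, ρ k x = x * r k := by
    refine ⟨
      { toFun := fun k =>
          { toFun := fun x => x * r k
            map_add' := fun x y => rdistrib x y (r k)
            map_smul' := fun c x => ZMod.map_smul (mulR k) c x
            invFun := fun x => x * r k⁻¹
            left_inv := fun x => by
              show x * r k * r k⁻¹ = x
              rw [mul_assoc, hrinv, mul_one]
            right_inv := fun x => by
              show x * r k⁻¹ * r k = x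
              rw [mul_assoc, hrinv', mul_one] }
        map_one' := by
          apply LinearEquiv.ext
          intro x
          show x * r 1 = x
          rw [hr1, mul_one]
        map_mul' := by
          intro k k'
          apply LinearEquiv.ext
          intro x
          show x * r (k * k') = x * r k' * r k
          rw [hrmul, ← mul_assoc] }, fun k x => rfl⟩
  obtain ⟨ρ, hρapp'⟩ := hex
  have hρinj : Function.Injective ρ := by
    intro k k' hkk'
    apply hinj
    have := congrArg (fun f : F ≃ₗ[ZMod p] F => f 1) hkk'
    simpa [hρapp'] using this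
  have hone : (1 : F) ≠ 0 := fun h => Cfsg.NearField.zero_ne_one h.symm
  have hreg : ∀ v w : F, v ≠ 0 → w ≠ 0 →
      ∃! h : ρ.range, ((h : F ≃ₗ[ZMod p] F)) v = w := by
    intro v w hv hw
    obtain ⟨v', hvv', hv'v⟩ := exists_inv' hv
    have ha : v' * w ≠ 0 := mul_ne_zero' hw (inv_ne_zero' hvv')
    obtain ⟨k, hk⟩ := hsurj _ ha
    refine ⟨⟨ρ k, k, rfl⟩, ?_, ?_⟩
    · show ρ k v = w
      rw [hρapp', hk, ← mul_assoc, hvv', one_mul]
    · rintro ⟨_, k', rfl⟩ hk'
      have h1 : ρ k' v = w := hk'
      rw [hρapp'] at h1
      have h2 : v * r k' = v * r k := by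
        rw [h1, hk, ← mul_assoc, hvv', one_mul]
      have h3 : r k' = r k := mul_left_cancel' hv h2
      apply Subtype.ext
      show ρ k' = ρ k
      rw [hinj h3]
  let e : K ≃* ρ.range := MonoidHom.ofInjective hρinj
  apply exists_index_two_of_equiv e
  apply exists_index_two hreg 1 hone (unique_three_of_equiv e hP2)
  rw [← Nat.card_congr e.toEquiv]
  exact heven

end Cfsg.Agent.Lib.H4.Idx2
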