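import Mathlib
import Cfsg.Agent.Lib.H4.Idx2.NFLin
import Cfsg.Agent.Lib.H4.S3T.Odd.Syl
import Cfsg.Agent.S0682

/-!
# The index two subgroup of a two-point stabilizer of a sharply triply transitive group of even
degree (helper4)
-/

set_option autoImplicit false

namespace Cfsg.Agent.Lib.H4.Idx2

open MulAction Cfsg.Agent.Lib.H4.S3T Cfsg.Agent.Lib.H4.S3T.Odd

/-- an involutory automorphism leaves some subgroup of index two invariant, if there is a subgroup
of index two at all -/
theorem exists_invariant_index_two {H : Type*} [Group H] (τ : H ≃* H) (hτ : ∀ h, τ (τ h) = h)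
    (N₁ : Subgroup H) (hN₁ : N₁.index = 2) :
    ∃ N : Subgroup H, N.index = 2 ∧ ∀ n ∈ N, τ n ∈ N := by
  by_cases hinv : ∀ n ∈ N₁, τ n ∈ N₁
  · exact ⟨N₁, hN₁, hinv⟩
  push Not at hinv
  obtain ⟨h₀, hh₀, hh₀'⟩ := hinv
  set N₂ : Subgroup H := N₁.comap τ.toMonoidHom with hN₂def
  have hmem₂ : ∀ h, h ∈ N₂ ↔ τ h ∈ N₁ := fun h => Iff.rfl
  have hN₂ : N₂.index = 2 := by
    rw [hN₂def, Subgroup.index_comap_of_surjective N₁ τ.surjective]
    exact hN₁
  let N₃ : Subgroup H :=
    { carrier := {h | h ∈ N₁ ↔ h ∈ N₂}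
      one_mem' := iff_of_true (Subgroup.one_mem _) (Subgroup.one_mem _)
      mul_mem' := by
        intro x y hx hy
        simp only [Set.mem_setOf_eq] at hx hy ⊢
        rw [Subgroup.mul_mem_iff_of_index_two hN₁, Subgroup.mul_mem_iff_of_index_two hN₂, hx, hy]
      inv_mem' := by
        intro x hx
        simp only [Set.mem_setOf_eq] at hx ⊢
        rw [Subgroup.inv_mem_iff, Subgroup.inv_mem_iff]
        exact hx }
  have hmem₃ : ∀ h, h ∈ N₃ ↔ (h ∈ N₁ ↔ h ∈ N₂) := fun h => Iff.rfl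
  refine ⟨N₃, ?_, ?_⟩
  · rw [Subgroup.index_eq_two_iff]
    refine ⟨h₀, fun x => ?_⟩
    rw [hmem₃, hmem₃, Subgroup.mul_mem_iff_of_index_two hN₁, Subgroup.mul_mem_iff_of_index_two hN₂]
    have h1 : h₀ ∉ N₂ := fun h => hh₀' ((hmem₂ h₀).mp h)
    unfold Xor
    by_cases hx1 : x ∈ N₁ <;> by_cases hx2 : x ∈ N₂ <;> simp [hx1, hx2, hh₀, h1]
  · intro n hn
    rw [hmem₃] at hn ⊢
    rw [hmem₂ (τ n), hτ n, ← hmem₂ n]
    exact hn.symm

variable {G : Type*} [Group G] {X : Type*} [MulAction G X]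

/-- conjugation between two-point stabilizers -/
def conjStab {a b z : X} (u : G) (hua : u • a = a) (huz : u • z = b) :
    ↥(stabilizer G a ⊓ stabilizer G b) ≃* ↥(stabilizer G a ⊓ stabilizer G z) where
  toFun k := ⟨u⁻¹ * k * u, by
    have hk := k.2
    rw [Subgroup.mem_inf, mem_stabilizer_iff, mem_stabilizer_iff] at hk ⊢
    constructor
    · rw [mul_smul, mul_smul, hua, hk.1, inv_smul_eq_iff, hua]
    · rw [mul_smul, mul_smul, huz, hk.2, inv_smul_eq_iff, huz]⟩
  invFun k := ⟨u * k * u⁻¹, by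
    have hk := k.2
    rw [Subgroup.mem_inf, mem_stabilizer_iff, mem_stabilizer_iff] at hk ⊢
    have hua' : u⁻¹ • a = a := by rw [inv_smul_eq_iff, hua]
    have huz' : u⁻¹ • b = z := by rw [inv_smul_eq_iff, huz]
    constructor
    · rw [mul_smul, mul_smul, hua', hk.1, hua]
    · rw [mul_smul, mul_smul, huz', hk.2, huz]⟩
  left_inv k := by
    apply Subtype.ext
    show u * (u⁻¹ * (k : G) * u) * u⁻¹ = k
    group
  right_inv k := by
    apply Subtype.ext
    show u⁻¹ * (u * (k : G) * u⁻¹) * u = k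
    group
  map_mul' k k' := by
    apply Subtype.ext
    show u⁻¹ * ((k : G) * k') * u = (u⁻¹ * k * u) * (u⁻¹ * k' * u)
    group

variable [Fintype X] [DecidableEq X]

/-- **a two-point stabilizer has a subgroup of index two** -/
theorem exists_index_two_stab' [Finite G] (h : Sharp3 G X) (heven : Even (Fintype.card X))
    (h6 : 4 ≤ Fintype.card X)
    (hP2 : ∀ a b : X, a ≠ b → ∀ A B : Subgroup G, A ≤ stabilizer G a ⊓ stabilizer G b →
      B ≤ stabilizer G a ⊓ stabilizer G b → Nat.card A = 3 → Nat.card B = 3 → A = B)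
    (a b : X) (hab : a ≠ b) :
    ∃ N : Subgroup ↥(stabilizer G a ⊓ stabilizer G b), N.index = 2 := by
  classical
  obtain ⟨nf, h1, h2⟩ := exists_nearField h (by omega) a
  letI : Cfsg.NearField (Pts a) := nf
  obtain ⟨p, j, hp, -, -, hadd, hchar⟩ := Cfsg.Agent.S0682.result (F := Pts a)
  haveI : Fact p.Prime := ⟨hp⟩
  have c : Ctx G X a := ⟨h, h1, h2, hadd⟩
  have hza : ((0 : Pts a) : X) ≠ a := (0 : Pts a).2
  -- the parametrization of the two-point stabilizer
  have hex : ∀ k : Hgp G a, ∃ x : Pts a, Rep a (k : G) x := fun k => c.exists_rep_of_mem k.2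
  choose r hr using hex
  have hr1 : r 1 = 1 := (hr 1).eq_right Rep.one
  have hrmul : ∀ k k' : Hgp G a, r (k * k') = r k' * r k := by
    intro k k'
    exact (hr (k * k')).eq_right ((hr k).mul (hr k'))
  have hinj : Function.Injective r := by
    intro k k' hkk'
    have h3 := hr k'
    rw [← hkk'] at h3
    exact Subtype.ext (c.eq_left (hr k) h3)
  have hsurj : ∀ x : Pts a, x ≠ 0 → ∃ k, r k = x := by
    intro x hx
    obtain ⟨k, hk⟩ := c.exists_rep hx
    exact ⟨⟨k, hk.mem_Hgp⟩, (hr ⟨k, hk.mem_Hgp⟩).eq_right hk⟩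
  have hP2' : ∀ A B : Subgroup (Hgp G a), Nat.card A = 3 → Nat.card B = 3 → A = B := by
    intro A B hA hB
    have h3 := hP2 a _ hza.symm (A.map (Hgp G a).subtype) (B.map (Hgp G a).subtype)
      (Subgroup.map_subtype_le A) (Subgroup.map_subtype_le B)
      (by rw [Subgroup.card_map_of_injective (Subgroup.subtype_injective _), hA])
      (by rw [Subgroup.card_map_of_injective (Subgroup.subtype_injective _), hB])
    exact Subgroup.map_injective (Subgroup.subtype_injective _) h3
  have hevenK : Even (Nat.card (Hgp G a)) := by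
    rw [card_Hgp c]
    obtain ⟨m, hm⟩ := heven
    exact ⟨m - 1, by omega⟩
  have hN₀ := exists_index_two_of_nearField hadd hchar r hr1 hrmul hinj hsurj hP2' hevenK
  -- transport to `b`
  obtain ⟨u, hua, hu⟩ := h2 1 ⟨b, hab.symm⟩ (Cfsg.Agent.Lib.H4.NF.one_ne_zero')
  have huz : u • ((0 : Pts a) : X) = b := by
    rw [hu 0, Cfsg.Agent.Lib.H4.NF.zero_mul', zero_add]
  exact exists_index_two_of_equiv (conjStab u hua huz) hN₀

/-- the same, with the degree bound of the statement in the list -/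
theorem exists_index_two_stab [Finite G] (h : Sharp3 G X) (heven : Even (Fintype.card X))
    (h6 : 6 ≤ Fintype.card X)
    (hP2 : ∀ a b : X, a ≠ b → ∀ A B : Subgroup G, A ≤ stabilizer G a ⊓ stabilizer G b →
      B ≤ stabilizer G a ⊓ stabilizer G b → Nat.card A = 3 → Nat.card B = 3 → A = B)
    (a b : X) (hab : a ≠ b) :
    ∃ N : Subgroup ↥(stabilizer G a ⊓ stabilizer G b), N.index = 2 :=
  exists_index_two_stab' h heven (by omega) hP2 a b hab

end Cfsg.Agent.Lib.H4.Idx2
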