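import Mathlib
import Cfsg.Agent.S0728
import Cfsg.Agent.Lib.H4.Idx2.S3TLink
import Cfsg.Agent.Lib.H4.Idx2.Ext

/-!
# A sharply triply transitive group of even degree at least six has a subgroup of index two
(helper4)
-/

set_option autoImplicit false

namespace Cfsg.Agent.Lib.H4.Idx2

open MulAction Cfsg.Agent.Lib.H4.S3T Cfsg.Agent.Lib.H4.S3T.Odd Cfsg.Agent.Lib.H4.NF

variable {G : Type*} [Group G] {X : Type*} [MulAction G X]

theorem three_pretransitive_of_sharp3 (h : Sharp3 G X) : IsMultiplyPretransitive G X 3 := by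
  refine ⟨fun x y => ?_⟩
  have hx : ∀ i j : Fin 3, i ≠ j → x i ≠ x j := fun i j hij h' => hij (x.injective h')
  have hy : ∀ i j : Fin 3, i ≠ j → y i ≠ y j := fun i j hij h' => hij (y.injective h')
  obtain ⟨g, h0, h1, h2⟩ := h.t3 (x 0) (x 1) (x 2) (y 0) (y 1) (y 2)
    (hx 0 1 (by decide)) (hx 0 2 (by decide)) (hx 1 2 (by decide))
    (hy 0 1 (by decide)) (hy 0 2 (by decide)) (hy 1 2 (by decide))
  refine ⟨g, ?_⟩
  ext i
  fin_cases i
  · exact h0
  · exact h1
  · exact h2

/-- at most one subgroup of order three in a two-point stabilizer -/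
theorem unique_three_of_sharp3 [Finite X] (h : Sharp3 G X) (h3 : 3 ≤ Nat.card X) :
    ∀ a b : X, a ≠ b → ∀ A B : Subgroup G, A ≤ stabilizer G a ⊓ stabilizer G b →
      B ≤ stabilizer G a ⊓ stabilizer G b → Nat.card A = 3 → Nat.card B = 3 → A = B := by
  classical
  intro a b hab A B hA hB hA3 hB3
  have sharp : ∀ g : G, ∀ u v w : X, u ≠ v → v ≠ w → u ≠ w → g • u = u → g • v = v → g • w = w →
      g = 1 := fun g u v w huv hvw huw h1 h2 h3' => h.s3 g u v w huv huw hvw h1 h2 h3'
  obtain ⟨c, hca, hcb⟩ : ∃ c : X, c ≠ a ∧ c ≠ b := by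
    by_contra hcon
    push Not at hcon
    have hsub : (Set.univ : Set X) ⊆ {a, b} := by
      intro x _
      by_cases hx : x = a
      · simp [hx]
      · simp [hcon x hx]
    have h1 : Nat.card X ≤ 2 := by
      rw [← Set.ncard_univ]
      calc (Set.univ : Set X).ncard ≤ ({a, b} : Set X).ncard :=
            Set.ncard_le_ncard hsub (Set.toFinite _)
        _ ≤ 2 := Set.ncard_insert_le a {b} |>.trans (by simp)
    omega
  have hfinA : Finite A := Nat.finite_of_card_ne_zero (by omega)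
  have hfinB : Finite B := Nat.finite_of_card_ne_zero (by omega)
  by_contra hAB
  have hBA : ¬ B ≤ A := by
    intro hle
    apply hAB
    exact (Subgroup.eq_of_le_of_card_ge hle (by rw [hA3, hB3])).symm
  obtain ⟨y, hyB, hyA⟩ := SetLike.not_le_iff_exists.mp hBA
  have hy1 : y ≠ 1 := fun h => hyA (h ▸ A.one_mem)
  have hntA : Nontrivial A := by
    rw [← Finite.one_lt_card_iff_nontrivial]; omega
  obtain ⟨⟨x, hxA⟩, hx1'⟩ := exists_ne (1 : A)
  have hx1 : x ≠ 1 := fun h => hx1' (Subtype.ext h)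
  obtain ⟨hx3, -⟩ := Cfsg.Agent.S0728.mem_pow_of_card_three A hA3 hxA hx1
  obtain ⟨hy3, -⟩ := Cfsg.Agent.S0728.mem_pow_of_card_three B hB3 hyB hy1
  have hxstab := hA hxA
  have hystab := hB hyB
  rw [Subgroup.mem_inf, MulAction.mem_stabilizer_iff, MulAction.mem_stabilizer_iff] at hxstab hystab
  exact Cfsg.Agent.S0728.core (three_pretransitive_of_sharp3 h) sharp hab hca hcb x y hxstab.1
    hxstab.2 hystab.1 hystab.2 hx3 hy3 hx1 hy1
    (fun h => hyA (h ▸ hxA)) (fun h => hyA (h ▸ A.pow_mem hxA 2))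

/-- the sign character of a subgroup of index two -/
noncomputable def signOfIndexTwo {K : Type*} [Group K] (N : Subgroup K) (hN : N.index = 2) :
    K →* ℤˣ := by
  classical
  exact
  { toFun := fun k => if k ∈ N then 1 else -1
    map_one' := by simp [N.one_mem]
    map_mul' := by
      intro x y
      by_cases hx : x ∈ N <;> by_cases hy : y ∈ N <;>
        simp [Subgroup.mul_mem_iff_of_index_two hN, hx, hy] }

theorem signOfIndexTwo_of_mem {K : Type*} [Group K] (N : Subgroup K) (hN : N.index = 2) {k : K}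
    (hk : k ∈ N) : signOfIndexTwo N hN k = 1 := by
  classical
  unfold signOfIndexTwo
  simp only [MonoidHom.coe_mk, OneHom.coe_mk]
  rw [if_pos hk]

theorem signOfIndexTwo_of_not_mem {K : Type*} [Group K] (N : Subgroup K) (hN : N.index = 2) {k : K}
    (hk : k ∉ N) : signOfIndexTwo N hN k = -1 := by
  classical
  unfold signOfIndexTwo
  simp only [MonoidHom.coe_mk, OneHom.coe_mk]
  rw [if_neg hk]

variable [Fintype X] [DecidableEq X]

/-- **the subgroup of index two** -/
theorem exists_index_two_of_sharp3 [Finite G] (h : Sharp3 G X) (heven : Even (Fintype.card X))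
    (h6 : 4 ≤ Fintype.card X) : ∃ M : Subgroup G, M.index = 2 := by
  classical
  have hP2 := unique_three_of_sharp3 h (by rw [Nat.card_eq_fintype_card]; omega)
  haveI : Nonempty X := by
    rw [← Fintype.card_pos_iff]; omega
  obtain ⟨a⟩ : Nonempty X := inferInstance
  obtain ⟨nf, h1, h2⟩ := exists_nearField h (by omega) a
  letI : Cfsg.NearField (Pts a) := nf
  obtain ⟨p, j, hp, -, -, hadd, hchar⟩ := Cfsg.Agent.S0682.result (F := Pts a)
  have c : Ctx G X a := ⟨h, h1, h2, hadd⟩
  -- the three base points and the involution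
  have hza : ((0 : Pts a) : X) ≠ a := (0 : Pts a).2
  have hea : ((1 : Pts a) : X) ≠ a := (1 : Pts a).2
  have hze : ((0 : Pts a) : X) ≠ ((1 : Pts a) : X) := fun e =>
    Cfsg.NearField.zero_ne_one (Subtype.ext e)
  obtain ⟨s, hsz, hsa, hse⟩ := h.t3 ((0 : Pts a) : X) a ((1 : Pts a) : X) a ((0 : Pts a) : X)
    ((1 : Pts a) : X) hza hze hea.symm hza.symm hea.symm hze
  have hss : s * s = 1 := by
    apply h.s3 _ a ((0 : Pts a) : X) ((1 : Pts a) : X) hza.symm hea.symm hze
    · rw [mul_smul, hsa, hsz]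
    · rw [mul_smul, hsz, hsa]
    · rw [mul_smul, hse, hse]
  have hsinv : s⁻¹ = s := inv_eq_of_mul_eq_one_left hss
  -- the index two subgroup of `H`, invariant under `s`
  obtain ⟨N₁, hN₁⟩ := exists_index_two_stab' h heven h6 hP2 a ((0 : Pts a) : X) hza.symm
  have hmem : ∀ k : ↥(stabilizer G a ⊓ stabilizer G ((0 : Pts a) : X)),
      s * (k : G) * s ∈ stabilizer G a ⊓ stabilizer G ((0 : Pts a) : X) := by
    intro k
    have hk := k.2
    rw [Subgroup.mem_inf, mem_stabilizer_iff, mem_stabilizer_iff] at hk ⊢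
    constructor
    · rw [mul_smul, mul_smul, hsa, hk.2, hsz]
    · rw [mul_smul, mul_smul, hsz, hk.1, hsa]
  have hsks : ∀ k : G, s * (s * k * s) * s = k := by
    intro k
    calc s * (s * k * s) * s = (s * s) * k * (s * s) := by group
      _ = k := by rw [hss, one_mul, mul_one]
  let τ : ↥(stabilizer G a ⊓ stabilizer G ((0 : Pts a) : X)) ≃*
      ↥(stabilizer G a ⊓ stabilizer G ((0 : Pts a) : X)) :=
    { toFun := fun k => ⟨s * (k : G) * s, hmem k⟩
      invFun := fun k => ⟨s * (k : G) * s, hmem k⟩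
      left_inv := fun k => Subtype.ext (hsks k)
      right_inv := fun k => Subtype.ext (hsks k)
      map_mul' := by
        intro k k'
        apply Subtype.ext
        show s * ((k : G) * k') * s = (s * k * s) * (s * k' * s)
        calc s * ((k : G) * k') * s = s * k * 1 * k' * s := by group
          _ = s * k * (s * s) * k' * s := by rw [hss]
          _ = (s * k * s) * (s * k' * s) := by group }
  have hτ : ∀ k, τ (τ k) = k := fun k => Subtype.ext (hsks k)
  obtain ⟨N', hN'idx, hN'inv⟩ := exists_invariant_index_two τ hτ N₁ hN₁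
  have hN'iff : ∀ k, τ k ∈ N' ↔ k ∈ N' := by
    intro k
    constructor
    · intro hk
      have := hN'inv _ hk
      rwa [hτ] at this
    · exact hN'inv k
  -- the retraction of `B` onto `H`
  have hm : ∀ g : stabilizer G a, ∃ m : Pts a, m ≠ 0 ∧ ∃ t : Pts a,
      ∀ x : Pts a, (g : G) • x.1 = (x * m + t).1 := by
    intro g
    obtain ⟨m, t, hm0, hmt⟩ := c.h1 g (mem_stabilizer_iff.mp g.2)
    exact ⟨m, hm0, t, hmt⟩
  choose m hm0 hmt using hm
  have hk : ∀ g : stabilizer G a, ∃ k : Hgp G a, Rep a (k : G) (m g) := by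
    intro g
    obtain ⟨k, hk⟩ := c.exists_rep (hm0 g)
    exact ⟨⟨k, hk.mem_Hgp⟩, hk⟩
  choose ψ hψ using hk
  have huniq : ∀ m₁ t₁ m₂ t₂ : Pts a, (∀ x : Pts a, x * m₁ + t₁ = x * m₂ + t₂) → m₁ = m₂ := by
    intro m₁ t₁ m₂ t₂ hx
    have h0 := hx 0
    rw [zero_mul', zero_mul', zero_add, zero_add] at h0
    have h1 := hx 1
    rw [one_mul, one_mul, h0] at h1
    exact add_right_cancel h1
  have hmmul : ∀ g g' : stabilizer G a, m (g * g') = m g' * m g := by
    intro g g'
    obtain ⟨t, ht⟩ := hmt g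
    obtain ⟨t', ht'⟩ := hmt g'
    obtain ⟨t'', ht''⟩ := hmt (g * g')
    apply huniq _ t'' _ (t' * m g + t)
    intro x
    apply Subtype.ext
    rw [← ht'' x, Subgroup.coe_mul, mul_smul, ht' x, ht (x * m g' + t'), rdistrib, mul_assoc,
      add_assoc]
  have hψmul : ∀ g g' : stabilizer G a, ψ (g * g') = ψ g * ψ g' := by
    intro g g'
    apply Subtype.ext
    have h3 : Rep a ((ψ g * ψ g' : Hgp G a) : G) (m g' * m g) := (hψ g).mul (hψ g')
    have h4 := hψ (g * g')
    rw [hmmul] at h4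
    exact c.eq_left h4 h3
  let ψhom : stabilizer G a →* Hgp G a := MonoidHom.mk' ψ hψmul
  have hψH : ∀ (k : G) (hk : k ∈ Hgp G a), ψ ⟨k, (Subgroup.mem_inf.mp hk).1⟩ = ⟨k, hk⟩ := by
    intro k hk
    obtain ⟨r, hr⟩ := c.exists_rep_of_mem hk
    obtain ⟨t, ht⟩ := hmt ⟨k, (Subgroup.mem_inf.mp hk).1⟩
    have h3 : m ⟨k, (Subgroup.mem_inf.mp hk).1⟩ = r := by
      apply huniq _ t _ 0
      intro x
      apply Subtype.ext
      rw [← ht x, add_zero]
      exact hr.2 x
    have h4 := hψ ⟨k, (Subgroup.mem_inf.mp hk).1⟩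
    rw [h3] at h4
    exact Subtype.ext (c.eq_left h4 hr)
  let χ : Hgp G a →* ℤˣ := signOfIndexTwo N' hN'idx
  let lam : stabilizer G a →* ℤˣ := χ.comp ψhom
  have hlamH : ∀ (k : G) (hk : k ∈ Hgp G a),
      lam ⟨k, (Subgroup.mem_inf.mp hk).1⟩ = χ ⟨k, hk⟩ := by
    intro k hk
    show χ (ψ ⟨k, _⟩) = χ ⟨k, hk⟩
    rw [hψH k hk]
  -- the extension data
  have d : ExtData (stabilizer G a) (Hgp G a) s lam := by
    refine ⟨hsinv, inf_le_left, ?_, ?_, ?_, ?_, ?_, ?_⟩
    · intro hs
      rw [mem_stabilizer_iff, hsa] at hs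
      exact hza hs
    · intro b hb hsbs
      rw [mem_stabilizer_iff] at hb hsbs
      rw [mul_smul, mul_smul, hsa] at hsbs
      unfold Hgp
      rw [Subgroup.mem_inf, mem_stabilizer_iff, mem_stabilizer_iff]
      refine ⟨hb, ?_⟩
      have : b • ((0 : Pts a) : X) = s⁻¹ • a := by rw [eq_inv_smul_iff]; exact hsbs
      rw [this, hsinv, hsa]
    · intro k hk
      exact hmem ⟨k, hk⟩
    · intro k hk
      have e1 := hlamH k hk
      have e2 := hlamH (s * k * s) (hmem ⟨k, hk⟩)
      rw [e1, e2]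
      show signOfIndexTwo N' hN'idx _ = signOfIndexTwo N' hN'idx _
      have := hN'iff ⟨k, hk⟩
      have h5 : τ ⟨k, hk⟩ = ⟨s * k * s, hmem ⟨k, hk⟩⟩ := rfl
      rw [h5] at this
      by_cases hkN : (⟨k, hk⟩ : Hgp G a) ∈ N'
      · have e3 := signOfIndexTwo_of_mem N' hN'idx hkN
        have e4 := signOfIndexTwo_of_mem N' hN'idx (this.mpr hkN)
        exact e4.trans e3.symm
      · have e3 := signOfIndexTwo_of_not_mem N' hN'idx hkN
        have e4 := signOfIndexTwo_of_not_mem N' hN'idx (fun h' => hkN (this.mp h'))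
        exact e4.trans e3.symm
    · intro g
      by_cases hg : g ∈ stabilizer G a
      · left; exact hg
      · right
        rw [mem_stabilizer_iff] at hg
        -- an element of `B` taking `0` to `g a`
        obtain ⟨b₁, hb₁a, hb₁⟩ := h2 1 ⟨g • a, hg⟩ one_ne_zero'
        have hb₁z : b₁ • ((0 : Pts a) : X) = g • a := by
          rw [hb₁ 0, zero_mul', zero_add]
        refine ⟨b₁, mem_stabilizer_iff.mpr hb₁a, s * b₁⁻¹ * g, ?_, ?_⟩
        · rw [mem_stabilizer_iff, mul_smul, mul_smul, ← hb₁z, inv_smul_smul, hsz]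
        · calc g = b₁ * (s * s) * (b₁⁻¹ * g) := by rw [hss]; group
            _ = b₁ * s * (s * b₁⁻¹ * g) := by group
    · -- the double coset
      obtain ⟨b₀, hb₀a, hb₀⟩ := h2 1 1 one_ne_zero'
      have hb₀z : b₀ • ((0 : Pts a) : X) = ((1 : Pts a) : X) := by
        rw [hb₀ 0, zero_mul', zero_add]
      refine ⟨b₀, mem_stabilizer_iff.mpr hb₀a, ?_, ?_⟩
      · intro hb₀H
        have := (mem_Hgp.mp hb₀H).2
        rw [hb₀z] at this
        exact hze this.symm
      · intro b hb hbH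
        rw [mem_stabilizer_iff] at hb
        have hbz : b • ((0 : Pts a) : X) ≠ ((0 : Pts a) : X) := by
          intro h0
          exact hbH (mem_Hgp.mpr ⟨hb, h0⟩)
        have hbza : b • ((0 : Pts a) : X) ≠ a := smul_ne_of_stab hb hza
        have hy0 : (⟨b • ((0 : Pts a) : X), hbza⟩ : Pts a) ≠ 0 := by
          intro h0
          exact hbz (congrArg Subtype.val h0)
        obtain ⟨k, hk⟩ := c.exists_rep hy0
        have hk1 : k • ((1 : Pts a) : X) = b • ((0 : Pts a) : X) := hk.smul_one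
        refine ⟨k, hk.mem_Hgp, (k * b₀)⁻¹ * b, ?_, by group⟩
        rw [mem_Hgp]
        constructor
        · rw [mul_smul, hb, inv_smul_eq_iff, mul_smul, hb₀a, hk.1]
        · rw [mul_smul, inv_smul_eq_iff, mul_smul, hb₀z, hk1]
  obtain ⟨f, hf⟩ := d.exists_hom
  -- `f` is onto
  have hne : ∃ k : Hgp G a, k ∉ N' := by
    by_contra hcon
    push Not at hcon
    have : N' = ⊤ := by
      rw [eq_top_iff]
      intro k _
      exact hcon k
    rw [this, Subgroup.index_top] at hN'idx
    omega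
  obtain ⟨k, hkN⟩ := hne
  have hfk : f (k : G) = -1 := by
    rw [hf (k : G) (Subgroup.mem_inf.mp k.2).1, hlamH (k : G) k.2]
    exact signOfIndexTwo_of_not_mem N' hN'idx hkN
  refine ⟨f.ker, ?_⟩
  rw [Subgroup.index_ker]
  have hrange : f.range = ⊤ := by
    rw [eq_top_iff]
    intro u _
    rcases Int.units_eq_one_or u with hu | hu
    · rw [hu]; exact Subgroup.one_mem _
    · rw [hu]; exact ⟨(k : G), hfk⟩
  rw [hrange, Subgroup.card_top]
  simp

end Cfsg.Agent.Lib.H4.Idx2
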