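import Mathlib
import Cfsg.Agent.Lib.H2.Zass1
import Cfsg.Agent.Lib.H4.Idx2.StarG

/-!
# A Zassenhaus group with large two-point stabilizers of even order is not simple (helper4)

If the two-point stabilizer `H` has even order `d` with `2 d > |Ω| - 2`, then `H` is regular on
the remaining points, the group is sharply triply transitive of even degree, and hence has a
subgroup of index two.
-/

set_option autoImplicit false

namespace Cfsg.Agent.Lib.H4.Idx2

open MulAction Cfsg.Agent.Lib.H4.S3T Cfsg.Agent.Lib.H2.Zass Cfsg.Agent.Lib.H4.NF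

variable {G Ω : Type*} [Group G] [MulAction G Ω]

/-- the action of the two-point stabilizer on the remaining points -/
@[reducible] def actRest (a b : Ω) :
    MulAction ↥(stabilizer G a ⊓ stabilizer G b) {x : Ω // x ≠ a ∧ x ≠ b} where
  smul h x := ⟨(h : G) • x.1, by
    have hh := h.2
    rw [Subgroup.mem_inf, mem_stabilizer_iff, mem_stabilizer_iff] at hh
    constructor
    · intro h0
      apply x.2.1
      have : (h : G) • x.1 = (h : G) • a := by rw [h0, hh.1]
      exact smul_left_cancel _ this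
    · intro h0
      apply x.2.2
      have : (h : G) • x.1 = (h : G) • b := by rw [h0, hh.2]
      exact smul_left_cancel _ this⟩
  one_smul x := by
    apply Subtype.ext
    show ((1 : ↥(stabilizer G a ⊓ stabilizer G b)) : G) • x.1 = x.1
    simp
  mul_smul h h' x := by
    apply Subtype.ext
    show ((h * h' : ↥(stabilizer G a ⊓ stabilizer G b)) : G) • x.1 = (h : G) • (h' : G) • x.1
    rw [Subgroup.coe_mul, mul_smul]

theorem card_rest [Fintype Ω] [DecidableEq Ω] {a b : Ω} (hab : a ≠ b) :
    Nat.card {x : Ω // x ≠ a ∧ x ≠ b} = Fintype.card Ω - 2 := by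
  rw [Nat.card_eq_fintype_card, Fintype.card_subtype]
  have h1 : (Finset.univ.filter fun x : Ω => x ≠ a ∧ x ≠ b) = Finset.univ \ {a, b} := by
    ext x
    simp
  rw [h1, Finset.card_sdiff_of_subset (Finset.subset_univ _), Finset.card_univ, Finset.card_pair hab]

theorem exists_index_two_of_large [Finite G] [Fintype Ω] (hP : Pre G Ω) {a b : Ω} (hab : a ≠ b)
    (heven : Even (Nat.card ↥(stabilizer G a ⊓ stabilizer G b)))
    (hd : ¬ 2 * Nat.card ↥(stabilizer G a ⊓ stabilizer G b) ≤ Fintype.card Ω - 2) :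
    ∃ M : Subgroup G, M.index = 2 := by
  classical
  have h3 : 3 ≤ Fintype.card Ω := by
    obtain ⟨x, y, z, hxy, hyz, hxz⟩ := exists_three hP
    exact Fintype.two_lt_card_iff.2 ⟨x, y, z, hxy, hxz, hyz⟩
  have memH : ∀ h : G, h ∈ stabilizer G a ⊓ stabilizer G b ↔ h • a = a ∧ h • b = b := by
    intro h
    rw [Subgroup.mem_inf, mem_stabilizer_iff, mem_stabilizer_iff]
  set d := Nat.card ↥(stabilizer G a ⊓ stabilizer G b) with hddef
  have hdpos : 0 < d := Nat.card_pos
  -- the action on the remaining points is free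
  letI := actRest (G := G) a b
  have hfree : ∀ (h : ↥(stabilizer G a ⊓ stabilizer G b)) (x : {x : Ω // x ≠ a ∧ x ≠ b}),
      h • x = x → h = 1 := by
    intro h x hx
    have hx' : (h : G) • x.1 = x.1 := congrArg Subtype.val hx
    have hh := (memH _).1 h.2
    apply Subtype.ext
    exact hP.three _ a b x.1 hab x.2.2.symm x.2.1.symm hh.1 hh.2 hx'
  have hdvd : d ∣ Fintype.card Ω - 2 := by
    have := QuatAut.card_dvd_of_free hfree
    rwa [card_rest hab] at this
  have hdeq : Fintype.card Ω - 2 = d := by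
    obtain ⟨j, hj⟩ := hdvd
    have hj1 : j = 1 := by
      rcases Nat.lt_or_ge j 2 with h | h
      · interval_cases j
        · omega
        · rfl
      · exfalso
        apply hd
        rw [hj]
        calc 2 * d = d * 2 := by ring
          _ ≤ d * j := Nat.mul_le_mul_left d h
    rw [hj, hj1, mul_one]
  have hevenΩ : Even (Fintype.card Ω) := by
    obtain ⟨m, hm⟩ := heven
    exact ⟨m + 1, by omega⟩
  have h4 : 4 ≤ Fintype.card Ω := by
    obtain ⟨m, hm⟩ := heven
    omega
  -- transitivity on the remaining points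
  have htrans : ∀ x y : Ω, x ≠ a → x ≠ b → y ≠ a → y ≠ b →
      ∃ h : G, h • a = a ∧ h • b = b ∧ h • x = y := by
    intro x y hxa hxb hya hyb
    let f : ↥(stabilizer G a ⊓ stabilizer G b) → {x : Ω // x ≠ a ∧ x ≠ b} :=
      fun h => h • (⟨x, hxa, hxb⟩ : {x : Ω // x ≠ a ∧ x ≠ b})
    have hf : Function.Injective f := by
      intro h h' hhh'
      have h5 : (h'⁻¹ * h) • (⟨x, hxa, hxb⟩ : {x : Ω // x ≠ a ∧ x ≠ b}) = ⟨x, hxa, hxb⟩ := by
        rw [mul_smul]
        show h'⁻¹ • f h = _
        rw [hhh']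
        show h'⁻¹ • h' • _ = _
        rw [inv_smul_smul]
      have := hfree _ _ h5
      exact (inv_mul_eq_one.mp this).symm
    have hbij : Function.Bijective f := by
      rw [Nat.bijective_iff_injective_and_card]
      refine ⟨hf, ?_⟩
      rw [card_rest hab, hdeq]
    obtain ⟨h, hh⟩ := hbij.2 ⟨y, hya, hyb⟩
    have hh' : (h : G) • x = y := congrArg Subtype.val hh
    exact ⟨h, ((memH _).1 h.2).1, ((memH _).1 h.2).2, hh'⟩
  -- sharp triple transitivity
  have hS : Sharp3 G Ω := by
    constructor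
    · intro u v w u' v' w' huv huw hvw huv' huw' hvw'
      obtain ⟨g₁, hg₁u, hg₁v⟩ := hP.two u v a b huv hab
      obtain ⟨g₂, hg₂u, hg₂v⟩ := hP.two u' v' a b huv' hab
      have e1 : g₁ • w ≠ a := by
        rw [← hg₁u]; exact fun h => huw (smul_left_cancel _ h).symm
      have e2 : g₁ • w ≠ b := by
        rw [← hg₁v]; exact fun h => hvw (smul_left_cancel _ h).symm
      have e3 : g₂ • w' ≠ a := by
        rw [← hg₂u]; exact fun h => huw' (smul_left_cancel _ h).symm
      have e4 : g₂ • w' ≠ b := by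
        rw [← hg₂v]; exact fun h => hvw' (smul_left_cancel _ h).symm
      obtain ⟨h, hha, hhb, hhw⟩ := htrans _ _ e1 e2 e3 e4
      refine ⟨g₂⁻¹ * h * g₁, ?_, ?_, ?_⟩
      · rw [mul_smul, mul_smul, hg₁u, hha, inv_smul_eq_iff, hg₂u]
      · rw [mul_smul, mul_smul, hg₁v, hhb, inv_smul_eq_iff, hg₂v]
      · rw [mul_smul, mul_smul, hhw, inv_smul_smul]
    · intro g u v w huv huw hvw h1 h2 h3'
      exact hP.three g u v w huv hvw huw h1 h2 h3'
  exact exists_index_two_of_sharp3 hS hevenΩ h4

end Cfsg.Agent.Lib.H4.Idx2
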