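import Mathlib
import Cfsg.Agent.Lib.H4.Zas.Main
import Cfsg.Agent.Lib.H4.Idx2.ZasSimple

/-!
# Two-point stabilizers of simple Zassenhaus groups (helper4)
-/

set_option autoImplicit false

namespace Cfsg.Agent.Lib.H4.Idx2

open MulAction Cfsg.Agent.Lib.H2.Zass Cfsg.Agent.Lib.H4.Zas

variable {G Ω : Type*} [Group G] [MulAction G Ω]

/-- conjugation between two-point stabilizers -/
def conjStab₂ {a b a' b' : Ω} (u : G) (hua : u • a' = a) (hub : u • b' = b) :
    ↥(stabilizer G a ⊓ stabilizer G b) ≃* ↥(stabilizer G a' ⊓ stabilizer G b') where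
  toFun k := ⟨u⁻¹ * k * u, by
    have hk := k.2
    rw [Subgroup.mem_inf, mem_stabilizer_iff, mem_stabilizer_iff] at hk ⊢
    constructor
    · rw [mul_smul, mul_smul, hua, hk.1, inv_smul_eq_iff, hua]
    · rw [mul_smul, mul_smul, hub, hk.2, inv_smul_eq_iff, hub]⟩
  invFun k := ⟨u * k * u⁻¹, by
    have hk := k.2
    rw [Subgroup.mem_inf, mem_stabilizer_iff, mem_stabilizer_iff] at hk ⊢
    have hua' : u⁻¹ • a = a' := by rw [inv_smul_eq_iff, hua]
    have hub' : u⁻¹ • b = b' := by rw [inv_smul_eq_iff, hub]
    constructor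
    · rw [mul_smul, mul_smul, hua', hk.1, hua]
    · rw [mul_smul, mul_smul, hub', hk.2, hub]⟩
  left_inv k := by
    apply Subtype.ext
    show u * (u⁻¹ * (k : G) * u) * u⁻¹ = k
    group
  right_inv k := by
    apply Subtype.ext
    show u⁻¹ * (u * (k : G) * u⁻¹) * u = k
    group
  map_mul' k k' := by
    apply Subtype.ext
    show u⁻¹ * ((k : G) * k') * u = (u⁻¹ * k * u) * (u⁻¹ * k' * u)
    group

/-- the two-point stabilizer of the base points of a coordinate system is cyclic -/
theorem Coord.isCyclic_stab [Finite G] {L : Type*} [Field L] (C : Coord G Ω L) (hP : Pre G Ω) :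
    IsCyclic ↥(stabilizer G (C.P none) ⊓ stabilizer G (C.P (some 0))) := by
  classical
  have hex : ∀ h : ↥(stabilizer G (C.P none) ⊓ stabilizer G (C.P (some 0))),
      ∃ c : L, ∀ x, (h : G) • C.P (some x) = C.P (some (c * x)) := by
    intro h
    have hh := h.2
    rw [Subgroup.mem_inf, mem_stabilizer_iff, mem_stabilizer_iff] at hh
    obtain ⟨c, -, hc⟩ := C.mult h hh.1 hh.2
    exact ⟨c, hc⟩
  choose f hf using hex
  have hf1 : ∀ h : ↥(stabilizer G (C.P none) ⊓ stabilizer G (C.P (some 0))),
      (h : G) • C.P (some 1) = C.P (some (f h)) := by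
    intro h
    rw [hf h 1, mul_one]
  have hPinj : ∀ x y : L, C.P (some x) = C.P (some y) → x = y := fun x y hxy =>
    Option.some_injective _ (C.P.injective hxy)
  let F : ↥(stabilizer G (C.P none) ⊓ stabilizer G (C.P (some 0))) →* L :=
    { toFun := f
      map_one' := by
        apply hPinj
        rw [← hf1]
        simp
      map_mul' := by
        intro h h'
        apply hPinj
        rw [← hf1, Subgroup.coe_mul, mul_smul, hf1 h', hf h]}
  have hFinj : Function.Injective F := by
    intro h h' hhh'
    have hhh'' : f h = f h' := hhh'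
    have hh := h.2
    have hh' := h'.2
    rw [Subgroup.mem_inf, mem_stabilizer_iff, mem_stabilizer_iff] at hh hh'
    have h01 : (C.P none) ≠ C.P (some 0) := fun e => by
      have := C.P.injective e
      simp at this
    have h02 : (C.P (some (0 : L))) ≠ C.P (some 1) := fun e => by
      have := hPinj _ _ e
      exact zero_ne_one this
    have h03 : (C.P none) ≠ C.P (some 1) := fun e => by
      have := C.P.injective e
      simp at this
    have h5 : (h' : G)⁻¹ * (h : G) = 1 := by
      apply hP.three _ (C.P none) (C.P (some 0)) (C.P (some 1)) h01 h02 h03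
      · rw [mul_smul, hh.1, inv_smul_eq_iff, hh'.1]
      · rw [mul_smul, hh.2, inv_smul_eq_iff, hh'.2]
      · rw [mul_smul, hf1 h, inv_smul_eq_iff, hf1 h', hhh'']
    apply Subtype.ext
    exact (inv_mul_eq_one.mp h5).symm
  exact isCyclic_of_injective_ringHom F hFinj

end Cfsg.Agent.Lib.H4.Idx2
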